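import Cfsg.Agent.Lib.GW.CltK.Two
import Cfsg.Agent.Lib.Comp.BpInherit
import Cfsg.Agent.Lib.CoprimeGen

/-!
No proper subgroup with a component properly contains an involution centraliser.
-/

set_option autoImplicit false
set_option maxHeartbeats 1600000
set_option linter.unusedSectionVars false
set_option linter.style.haveILetI false

namespace CfsgLib.GW

open Cfsg DihedralGroup
open CfsgLib.DihedralFusion

universe u

namespace Cfg

variable {G : Type u} [Group G] [Finite G] {t : G} {L : Subgroup G} (c : Cfg t L)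

local notation "K₀" => Subgroup.normalizer (L : Set G)

include c

/-- Centralisers of nontrivial elements of the centraliser of `L` normalise it, by induction on the order. -/
theorem centralizer_le_of_ih
    (IH : ∀ (X : Type u) [Group X] [Finite X], Nat.card X < Nat.card G →
      ∀ (s : X) (M : Subgroup X), Cfg s M → False)
    {z : G} (hz : z ∈ Subgroup.centralizer (L : Set G)) (hz1 : z ≠ 1) :
    Subgroup.centralizer ({z} : Set G) ≤ K₀ := by
  classical
  haveI := c.hyp.simple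
  haveI := c.perfect
  set H := Subgroup.centralizer ({z} : Set G) with hHdef
  have hH : H ≠ ⊤ := by
    intro e
    have hzc : z ∈ Subgroup.center G := Subgroup.mem_center_iff.mpr fun x =>
      Subgroup.mem_centralizer_singleton_iff.mp (hHdef ▸ e ▸ Subgroup.mem_top x)
    rcases (inferInstance : (Subgroup.center G).Normal).eq_bot_or_eq_top with h0 | h1
    · rw [h0, Subgroup.mem_bot] at hzc
      exact hz1 hzc
    · exact c.hyp.noncomm ⟨⟨fun a b => Subgroup.mem_center_iff.mp (h1 ▸ Subgroup.mem_top b) a⟩⟩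
  have hLH : L ≤ H := fun l hl =>
    Subgroup.mem_centralizer_singleton_iff.mpr (Subgroup.mem_centralizer_iff.mp hz l hl)
  have hns : ¬ Group.IsSolvable H := fun h => by
    haveI := h
    exact c.not_solvable (Group.isSolvable_of_isSolvable_injective (f := Subgroup.inclusion hLH)
      (Subgroup.inclusion_injective hLH))
  obtain ⟨hdH, E, hEn, hmE, hsE, hCE, hEmax⟩ := c.hyp.proper_shape H hH hns
  haveI := hEn
  -- the core
  set O := (oddCore H).map H.subtype with hOdef
  have hOodd : Odd (Nat.card O) := CfsgLib.odd_card_oddCore.of_dvd_nat (Subgroup.card_map_dvd _ _)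
  have hOH : O ≤ H := Subgroup.map_subtype_le _
  have hOK : O ≤ K₀ := by
    obtain ⟨-, -, -, U, hU, hUL, -, -⟩ := c.exists_sylow
    haveI := hU
    haveI : IsMulCommutative U := IsKleinFour.isMulCommutative
    rw [← CfsgLib.coprime_generated_by_centralizers (A := U) (K := O) (by
        intro hc
        haveI := hc
        exact IsKleinFour.not_isCyclic (G := U) inferInstance)
      (fun a ha => Subgroup.mem_normalizer_fintype fun x hx => by
        obtain ⟨y, hy, rfl⟩ := hx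
        exact ⟨⟨a, hLH (hUL ha)⟩ * y * ⟨a, hLH (hUL ha)⟩⁻¹,
          (inferInstance : (oddCore H).Normal).conj_mem y hy _, rfl⟩)
      (by rw [hU.card_four, show 4 = 2 ^ 2 by norm_num]
          exact Nat.Coprime.pow_left _ (Nat.coprime_two_left.2 hOodd))]
    refine iSup₂_le fun a ha => inf_le_right.trans (c.centralizer_invol_le (hUL ha.1) (orderOf_eq_prime ?_ ha.2))
    rw [sq]
    exact congrArg Subtype.val (IsKleinFour.mul_self (⟨a, ha.1⟩ : U))
  -- lifting centralising elements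
  set π : H →* ↥H ⧸ oddCore H := QuotientGroup.mk' _ with hπ
  have htH : t ∈ H := hLH c.t_mem
  have hlift : ∀ h : H, π h * π ⟨t, htH⟩ = π ⟨t, htH⟩ * π h →
      ∃ r : H, r ∈ oddCore H ∧ ((r : G)⁻¹ * (h : G)) ∈ K₀ := by
    intro h hh
    have h1 : π (h * ⟨t, htH⟩ * h⁻¹ * ⟨t, htH⟩⁻¹) = 1 := by
      rw [map_mul, map_mul, map_mul, map_inv, map_inv, hh, mul_inv_cancel_right, mul_inv_cancel]
    have h2 : h * ⟨t, htH⟩ * h⁻¹ * ⟨t, htH⟩⁻¹ ∈ oddCore H := (QuotientGroup.eq_one_iff _).1 h1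
    obtain ⟨r, hr, e⟩ := exists_lift hOodd c.ord (h := (h : G)) ⟨_, h2, rfl⟩
    obtain ⟨r', hr', rfl⟩ := hr
    exact ⟨r', hr', c.le (Subgroup.mem_centralizer_singleton_iff.mpr e)⟩
  set L' := L.subgroupOf H with hL'
  haveI : Group.IsPerfect L' := isPerfect_subgroupOf hLH
  haveI hperf : Group.IsPerfect (L'.map π) := Group.IsPerfect.map π
  have hLE : L'.map π ≤ E := hEmax _ hperf
  have htπ : π ⟨t, htH⟩ ≠ 1 := fun h => by
    have h2 := odd_orderOf_of_mem hOodd (⟨⟨t, htH⟩, (QuotientGroup.eq_one_iff _).1 h, rfl⟩ : t ∈ O)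
    rw [c.ord] at h2
    norm_num at h2
  have htL' : π ⟨t, htH⟩ ∈ L'.map π := ⟨⟨t, htH⟩, c.t_mem, rfl⟩
  haveI : Group.IsPerfect E := (hmE.simple_perfect).2
  haveI := hsE
  have hEna : ¬ IsMulCommutative E := fun h => Group.IsPerfect.not_isMulCommutative E h
  have hE0 : E ≠ ⊥ := fun e => htπ (by
    have := hLE htL'
    rwa [e, Subgroup.mem_bot] at this)
  have hEd : GWDihedral E := (hdH.quotient (oddCore H) CfsgLib.odd_card_oddCore).perfect_sub E hE0
  have hElt : Nat.card E < Nat.card G :=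
    lt_of_le_of_lt ((Nat.le_of_dvd Nat.card_pos E.card_subgroup_dvd_card).trans
      (Nat.le_of_dvd Nat.card_pos (Subgroup.card_quotient_dvd_card _))) (card_lt_of_ne_top hH)
  have hyp : GWHyp E := ⟨hsE, hEna, hEd, fun X _ _ _ hX hXd => c.hyp.ih X (hX.trans hElt) hXd⟩
  -- the image of the component is everything
  have hEle : E ≤ L'.map π := by
    by_contra hne
    haveI : Nontrivial (L'.map π) := ⟨⟨⟨_, htL'⟩, 1, fun e => htπ (congrArg Subtype.val e)⟩⟩
    have hq₁ : IsQuasisimple (L'.map π) :=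
      CfsgLib.Comp.isQuasisimple_of_surj_nontrivial (π.subgroupMap L') (π.subgroupMap_surjective L')
        (CfsgLib.isQuasisimple_of_equiv (Subgroup.subgroupOfEquivOfLe hLH).symm c.qs)
    refine IH E hElt ⟨π ⟨t, htH⟩, hLE htL'⟩ ((L'.map π).subgroupOf E) ⟨hyp, ?_,
      CfsgLib.isQuasisimple_of_equiv (Subgroup.subgroupOfEquivOfLe hLE).symm hq₁,
      fun e => hne (Subgroup.subgroupOf_eq_top.1 e), ?_⟩
    · rw [Subgroup.orderOf_mk]
      refine orderOf_eq_prime ?_ htπ
      rw [← map_pow, show (⟨t, htH⟩ : H) ^ 2 = 1 from Subtype.ext (by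
        rw [Subgroup.coe_pow, Subgroup.coe_one, ← c.ord]; exact pow_orderOf_eq_one _), map_one]
    · intro y hy
      obtain ⟨h, hh⟩ := QuotientGroup.mk'_surjective _ (y : ↥H ⧸ oddCore H)
      have hy' := congrArg Subtype.val (Subgroup.mem_centralizer_singleton_iff.1 hy)
      rw [Subgroup.coe_mul, Subgroup.coe_mul, ← hh] at hy'
      obtain ⟨r, hr, hrK⟩ := hlift h hy'
      have hπh : π h = π (r⁻¹ * h) := by
        rw [map_mul, map_inv, (QuotientGroup.eq_one_iff (N := oddCore H) r).2 hr |> fun e => (show π r = 1 from e),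
          inv_one, one_mul]
      refine Subgroup.mem_normalizer_fintype fun x hx => ?_
      obtain ⟨l, hl, hle⟩ := Subgroup.mem_subgroupOf.1 hx
      refine Subgroup.mem_subgroupOf.2 ⟨(r⁻¹ * h) * l * (r⁻¹ * h)⁻¹, Subgroup.mem_subgroupOf.2
        (Cfg.conj_mem_L (L := L) (g := (r : G)⁻¹ * (h : G)) (x := (l : G)) hrK (Subgroup.mem_subgroupOf.1 hl)), ?_⟩
      rw [map_mul, map_mul, map_inv, ← hπh, hle]
      show π h * (x : ↥H ⧸ oddCore H) * (π h)⁻¹ = ((y * x * y⁻¹ : E) : ↥H ⧸ oddCore H)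
      rw [Subgroup.coe_mul, Subgroup.coe_mul, Subgroup.coe_inv, ← hh]
  -- Frattini argument
  intro h hh
  set h' : H := ⟨h, hh⟩
  have ht2 : orderOf (⟨π ⟨t, htH⟩, hLE htL'⟩ : E) = 2 := by
    rw [Subgroup.orderOf_mk]
    refine orderOf_eq_prime ?_ htπ
    rw [← map_pow, show (⟨t, htH⟩ : H) ^ 2 = 1 from Subtype.ext (by
      rw [Subgroup.coe_pow, Subgroup.coe_one, ← c.ord]; exact pow_orderOf_eq_one _), map_one]
  have hmem : π h' * π ⟨t, htH⟩ * (π h')⁻¹ ∈ E := hEn.conj_mem _ (hLE htL') _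
  have hc2 : orderOf (⟨_, hmem⟩ : E) = 2 := by
    rw [Subgroup.orderOf_mk]
    exact (MulEquiv.orderOf_eq (MulAut.conj (π h')) _).trans ((Subgroup.orderOf_mk _ _).symm.trans ht2)
  obtain ⟨y, hy⟩ := isConj_iff.1 (hEd.perfect_all_conj _ _ ht2 hc2)
  obtain ⟨l, hl, hly⟩ := hEle y.2
  have hy' : π l * π ⟨t, htH⟩ * (π l)⁻¹ = π h' * π ⟨t, htH⟩ * (π h')⁻¹ := by
    rw [hly]
    exact congrArg Subtype.val hy
  have hcomm : π (l⁻¹ * h') * π ⟨t, htH⟩ = π ⟨t, htH⟩ * π (l⁻¹ * h') := by
    rw [map_mul, map_inv]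
    calc (π l)⁻¹ * π h' * π ⟨t, htH⟩ = (π l)⁻¹ * (π h' * π ⟨t, htH⟩ * (π h')⁻¹) * π h' := by group
      _ = (π l)⁻¹ * (π l * π ⟨t, htH⟩ * (π l)⁻¹) * π h' := by rw [hy']
      _ = π ⟨t, htH⟩ * ((π l)⁻¹ * π h') := by group
  obtain ⟨r, hr, hrK⟩ := hlift _ hcomm
  have h1 := mul_mem (mul_mem (Subgroup.le_normalizer (show (l : G) ∈ L from hl)) (hOK ⟨r, hr, rfl⟩)) hrK
  rwa [show (l : G) * (H.subtype r) * ((r : G)⁻¹ * ((l⁻¹ * h' : H) : G)) = h by
    show (l : G) * (r : G) * ((r : G)⁻¹ * ((l : G)⁻¹ * h)) = h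
    group] at h1

end Cfg

theorem cfg_false_aux : ∀ (n : ℕ) (G : Type u) [Group G] [Finite G], Nat.card G = n →
    ∀ (t : G) (L : Subgroup G), Cfg t L → False := by
  intro n
  induction n using Nat.strong_induction_on with
  | _ n ih =>
    intro G _ _ hn t L c
    have hTI := fun z (hz : z ∈ Subgroup.centralizer (L : Set G)) (hz1 : z ≠ 1) =>
      c.centralizer_le_of_ih (fun X _ _ hX s M d => ih (Nat.card X) (hn ▸ hX) X rfl s M d) hz hz1
    by_cases hout : ∃ v, orderOf v = 2 ∧ v ∈ Subgroup.normalizer (L : Set G) ∧ v ∉ L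
    · obtain ⟨v, ov, hvK, hvL⟩ := hout
      exact c.two_class_false hTI ov hvK hvL
    push Not at hout
    refine c.hyp.no_one_class c.ord c.normalizer_ne_top c.le (fun h => ?_) fun a b oa ob => ?_
    · haveI := h
      exact c.not_solvable (Group.isSolvable_of_isSolvable_injective
        (f := Subgroup.inclusion (Subgroup.le_normalizer (H := L))) (Subgroup.inclusion_injective _))
    · rw [← Subgroup.orderOf_coe] at oa ob
      obtain ⟨l, hl, e⟩ := c.conj_L (hout _ oa a.2) (hout _ ob b.2) oa ob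
      exact isConj_iff.2 ⟨⟨l, Subgroup.le_normalizer hl⟩, Subtype.ext e⟩

/-- A quasisimple proper subgroup is not normalised by the centraliser of an involution. -/
theorem cfg_false {G : Type u} [Group G] [Finite G] {t : G} {L : Subgroup G} (c : Cfg t L) : False :=
  cfg_false_aux (Nat.card G) G rfl t L c

/-- The part `hCK` of `model_of_parts`. -/
theorem GWHyp.notCltK {G : Type u} [Group G] [Finite G] (h : GWHyp G) (S : Sylow 2 G) (t : G)
    (ht : orderOf t = 2) (_htS : t ∈ (S : Subgroup G)) (_htZ : ∀ s ∈ (S : Subgroup G), s * t = t * s)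
    (K : Subgroup G) (hK : IsCoatom K) (hCK : Subgroup.centralizer ({t} : Set G) < K)
    (L : Subgroup K) (hL : IsComponent L) : False := by
  obtain ⟨-, -, -, -, hn, -, -⟩ := h.component K hK.1 hL
  refine cfg_false (t := t) (L := L.map K.subtype) ⟨h, ht,
    CfsgLib.isQuasisimple_of_equiv (L.equivMapOfInjective K.subtype K.subtype_injective) hL.2,
    fun e => hK.1 (top_le_iff.mp (e ▸ Subgroup.map_subtype_le L)), fun g hg => ?_⟩
  refine Subgroup.mem_normalizer_fintype fun x hx => ?_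
  obtain ⟨y, hy, rfl⟩ := hx
  exact ⟨⟨g, hCK.le hg⟩ * y * ⟨g, hCK.le hg⟩⁻¹, hn.conj_mem y hy _, rfl⟩

end CfsgLib.GW
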