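import Cfsg.Agent.Lib.GW.CltK.Ratio

/-!
The arithmetic excluding a subgroup of type `PGL(2,q)` containing an involution centraliser.
-/

set_option autoImplicit false
set_option linter.unusedSectionVars false

namespace CfsgLib.GW

theorem ratio_lt_one {x : ℕ} (hx : 1 < x) :
    (x : ℚ) * ((x : ℚ) + ((-1 : ℤ) : ℚ)) / ((x : ℚ) - ((-1 : ℤ) : ℚ)) ^ 2 < 1 := by
  have h2 : (2 : ℚ) ≤ x := by exact_mod_cast hx
  push_cast
  rw [sub_neg_eq_add, div_lt_one (pow_pos (by linarith) 2)]
  nlinarith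

/-- There are too few points outside the fixed one. -/
theorem arith_false {N q m M : ℕ} {e : ℤ} {ρ : ℚ} (hm : 4 ≤ m) (hshape : Shape m M ρ) (h5 : 5 ≤ q)
    (he : e = 1 ∨ e = -1) (h4 : 4 ∣ (q : ℤ) + e) (hmd : (m : ℤ) ∣ (q : ℤ) + e)
    (hmax : ¬ 2 * (m : ℤ) ∣ (q : ℤ) + e) (hN : Odd N)
    (hform : 4 * (N : ℚ) * q * ((q : ℚ) - e) = ρ * ((q : ℚ) + e) ^ 2 * ((q : ℚ) - e + 2) ^ 2)
    (hlow : 2 + (q : ℚ) * ((q : ℚ) + e) ≤ 2 * N) : False := by
  obtain ⟨x, d, hd, hx, -, hdvd, hρ⟩ := hshape.exists_x (show m ≠ 2 by omega)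
  have h5q : (5 : ℚ) ≤ q := by exact_mod_cast h5
  have hρle := hshape.le_big hm
  have hρpos := hshape.pos
  rcases he with rfl | rfl <;> push_cast at hform hlow
  · rcases Nat.lt_or_ge q 11 with h11 | h11
    · obtain rfl : q = 7 := by omega
      obtain rfl : m = 8 := by
        have h1 := Int.le_of_dvd (by norm_num) hmd
        have h2 : m ≤ 8 := by omega
        interval_cases m <;> first | rfl | omega
      norm_num at hform hlow
      rcases hd with rfl | rfl
      · rcases Nat.lt_or_ge x 33 with h33 | h33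
        · obtain rfl : x = 17 := by omega
          norm_num [hρ] at hform
          have h29 : (29 : ℚ) < N ∧ (N : ℚ) < 30 := ⟨by linarith, by linarith⟩
          have h1 : 29 < N := by exact_mod_cast h29.1
          have h2 : N < 30 := by exact_mod_cast h29.2
          omega
        · have hb : ρ ≤ (1 + 1 / 32) * (1 + 2 / 32) := by
            have h33' : (33 : ℚ) ≤ x := by exact_mod_cast h33
            rw [hρ]
            exact ratio_le_of_le (Or.inl rfl) hx (by norm_num) (by push_cast; linarith)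
          linarith
      · have := ratio_lt_one hx
        rw [← hρ] at this
        linarith
    · have h11q : (11 : ℚ) ≤ q := by exact_mod_cast h11
      obtain ⟨u, hu, hq⟩ : ∃ u : ℚ, 0 ≤ u ∧ (q : ℚ) = 11 + u := ⟨(q : ℚ) - 11, by linarith, by ring⟩
      have h1 : ρ * ((q : ℚ) + 1) ^ 2 * ((q : ℚ) - 1 + 2) ^ 2 ≤ 45 / 32 * ((q : ℚ) + 1) ^ 4 := by
        rw [show ((q : ℚ) - 1 + 2) = q + 1 by ring, mul_assoc, show ((q : ℚ) + 1) ^ 2 * ((q : ℚ) + 1) ^ 2 =
          ((q : ℚ) + 1) ^ 4 by ring]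
        exact mul_le_mul_of_nonneg_right hρle (by positivity)
      have h2 : 2 * ((2 + (q : ℚ) * ((q : ℚ) + 1)) * q * ((q : ℚ) - 1)) ≤ 4 * (N : ℚ) * q * ((q : ℚ) - 1) := by
        have := mul_le_mul_of_nonneg_right hlow (mul_nonneg (by linarith : (0 : ℚ) ≤ q)
          (by linarith : (0 : ℚ) ≤ (q : ℚ) - 1))
        linarith
      rw [hq] at h1 h2 hform
      nlinarith [mul_nonneg hu hu, mul_nonneg (mul_nonneg hu hu) hu, mul_nonneg (mul_nonneg hu hu) (mul_nonneg hu hu)]
  · rcases Nat.lt_or_ge q 9 with h9 | h9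
    · obtain rfl : q = 5 := by omega
      obtain rfl : m = 4 := by
        have h1 := Int.le_of_dvd (by norm_num) hmd
        omega
      norm_num at hform hlow
      rcases hd with rfl | rfl
      · rcases Nat.lt_or_ge x 17 with h17 | h17
        · obtain rfl : x = 9 := by omega
          norm_num [hρ] at hform
          have h12 : (N : ℚ) = 12 := by linarith
          have h : N = 12 := by exact_mod_cast h12
          subst h
          exact absurd hN (by decide)
        · have hb : ρ ≤ (1 + 1 / 16) * (1 + 2 / 16) := by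
            have h17' : (17 : ℚ) ≤ x := by exact_mod_cast h17
            rw [hρ]
            exact ratio_le_of_le (Or.inl rfl) hx (by norm_num) (by push_cast; linarith)
          linarith
      · have := ratio_lt_one hx
        rw [← hρ] at this
        linarith
    · have h9q : (9 : ℚ) ≤ q := by exact_mod_cast h9
      obtain ⟨u, hu, hq⟩ : ∃ u : ℚ, 0 ≤ u ∧ (q : ℚ) = 9 + u := ⟨(q : ℚ) - 9, by linarith, by ring⟩
      have h1 : ρ * ((q : ℚ) + -1) ^ 2 * ((q : ℚ) - -1 + 2) ^ 2 ≤
          45 / 32 * (((q : ℚ) - 1) ^ 2 * ((q : ℚ) + 3) ^ 2) := by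
        rw [mul_assoc, show ((q : ℚ) + -1) ^ 2 * ((q : ℚ) - -1 + 2) ^ 2 =
          ((q : ℚ) - 1) ^ 2 * ((q : ℚ) + 3) ^ 2 by ring]
        exact mul_le_mul_of_nonneg_right hρle (by positivity)
      have h2 : 2 * ((2 + (q : ℚ) * ((q : ℚ) + -1)) * q * ((q : ℚ) - -1)) ≤
          4 * (N : ℚ) * q * ((q : ℚ) - -1) := by
        have := mul_le_mul_of_nonneg_right hlow (mul_nonneg (by linarith : (0 : ℚ) ≤ q)
          (by linarith : (0 : ℚ) ≤ (q : ℚ) - -1))
        linarith
      rw [hq] at h1 h2 hform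
      nlinarith [mul_nonneg hu hu, mul_nonneg (mul_nonneg hu hu) hu, mul_nonneg (mul_nonneg hu hu) (mul_nonneg hu hu)]

end CfsgLib.GW
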