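import Cfsg.Agent.Lib.GW.Hyp
import Cfsg.Agent.Lib.GW.OrderFormula
import Cfsg.Agent.Lib.SmallOrder
import Cfsg.Agent.Lib.CharTheory.Burnside

/-!
A proper non-solvable subgroup with one class of involutions does not contain an involution centraliser:
the order formulas of the two groups differ only in the ratios of the degrees.
-/

set_option autoImplicit false
set_option maxHeartbeats 800000
set_option linter.unusedSectionVars false
set_option linter.style.haveILetI false

namespace CfsgLib.GW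

open Cfsg DihedralGroup
open CfsgLib.DihedralFusion

universe u

/-- A lower bound for the ratio of the first shape. -/
theorem ratio_ge {m x : ℕ} {d : ℤ} (hm : 4 ≤ m) (hd : d = 1 ∨ d = -1) (hx : 1 < x)
    (hdvd : 2 * (m : ℤ) ∣ (x : ℤ) - d) :
    (21 / 32 : ℚ) ≤ (x : ℚ) * ((x : ℚ) + d) / ((x : ℚ) - d) ^ 2 := by
  have h2 : (2 : ℚ) ≤ x := by exact_mod_cast hx
  rcases hd with rfl | rfl <;> push_cast
  · rw [le_div_iff₀ (pow_pos (by linarith) 2)]
    nlinarith
  · have h := Int.le_of_dvd (by omega) hdvd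
    have h7 : (7 : ℚ) ≤ x := by
      have : (7 : ℤ) ≤ x := by omega
      exact_mod_cast this
    rw [sub_neg_eq_add, le_div_iff₀ (pow_pos (by linarith) 2)]
    nlinarith [mul_nonneg (by linarith : (0 : ℚ) ≤ (x : ℚ) - 7) (by linarith : (0 : ℚ) ≤ 11 * (x : ℚ) + 3)]

/-- An upper bound for the ratio when the Sylow subgroup has order at least eight. -/
theorem Shape.le_big {m N : ℕ} {ρ : ℚ} (hm : 4 ≤ m) (h : Shape m N ρ) : ρ ≤ 45 / 32 := by
  obtain ⟨x, d, hd, hx, -, hdvd, rfl⟩ := h.exists_x (by omega)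
  have hm' : (4 : ℚ) ≤ m := by exact_mod_cast hm
  refine (ratio_le_of_le hd hx (M := 8) (by norm_num) ?_).trans (by norm_num)
  linarith [sub_ge hd hx hdvd]

variable {X : Type u} [Group X] [Finite X]

/-- The order formula of a group with Klein four Sylow subgroup, one class of involutions and no normal
subgroup of index four. -/
theorem four_ratio (S : Sylow 2 X) (eS : (S : Subgroup X) ≃* DihedralGroup 2)
    (hone : ∀ s t : X, orderOf s = 2 → orderOf t = 2 → IsConj s t)
    (hnc : ¬ Group.IsSolvable X) {t : X} (htS : t ∈ (S : Subgroup X)) (ht : orderOf t = 2) :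
    ∃ ρ : ℚ, 1 / 3 ≤ ρ ∧ (Nat.card X : ℚ) = 8 * ρ * (Nat.card (Subgroup.centralizer ({t} : Set X)) : ℚ) ^ 3 /
        (Nat.card (Subgroup.centralizer ((S : Subgroup X) : Set X)) : ℚ) ^ 2 := by
  classical
  haveI := Fintype.ofFinite X
  haveI : Fact (Nat.Prime 2) := ⟨Nat.prime_two⟩
  have hS4 : Nat.card S = 4 := (Nat.card_congr eS.toEquiv).trans DihedralGroup.nat_card
  obtain ⟨g₀, hg⟩ : 4 ∣ Nat.card X := hS4 ▸ Subgroup.card_subgroup_dvd_card (S : Subgroup X)
  have hg0 : Odd g₀ := by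
    refine Nat.not_even_iff_odd.1 fun he => S.not_dvd_index ?_
    obtain ⟨r, hr⟩ := he
    have h := (S : Subgroup X).card_mul_index
    rw [show Nat.card (S : Subgroup X) = 4 from hS4, hg] at h
    have : (S : Subgroup X).index = g₀ := by omega
    exact ⟨r, by omega⟩
  have hnn : ¬ ∃ N : Subgroup X, N.Normal ∧ Nat.card N = g₀ := by
    rintro ⟨N, hN, hNc⟩
    refine hnc ?_
    haveI := hN
    haveI : Group.IsSolvable N := CfsgLib.OddOrder.feitThompson (hNc ▸ hg0)
    have h4 : Nat.card (X ⧸ N) = 4 := by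
      have h := N.card_mul_index
      rw [hNc, hg, Subgroup.index_eq_card] at h
      exact Nat.eq_of_mul_eq_mul_left hg0.pos (by linarith)
    haveI : IsMulCommutative (X ⧸ N) :=
      IsPGroup.isMulCommutative_of_card_eq_prime_sq (p := 2) (by rw [h4]; norm_num)
    haveI : Group.IsSolvable (X ⧸ N) :=
      Group.isSolvable_of_comm fun a b => IsMulCommutative.is_comm.comm a b
    exact Group.isSolvable_of_ker_le_range N.subtype (QuotientGroup.mk' N)
      (by rw [QuotientGroup.ker_mk', Subgroup.range_subtype])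
  have hK : IsKleinFour (S : Subgroup X) := isKleinFour_of_equiv eS.symm
  obtain ⟨M, hM⟩ := CfsgLib.Blocks.exists_isPModular Nat.prime_two
  obtain ⟨ζ₂, ζ₃, ζ₄, ε, hε, h02, h03, h23, h24, h34, hB, hval, -, -, -, hrel⟩ :=
    Cfsg.Agent.S0948.result M hM S hK hone
  have h04 : (ζ₄ : X → ℂ) ≠ fun _ => 1 := fun e => by
    have h := (hval t ht).2.2
    rw [e] at h
    norm_num at h
  obtain ⟨v2, v3, v4⟩ := hval t ht
  have hord := Cfsg.Agent.S4479.result M hM g₀ hg0 hg hnn S t htS ht ζ₂ ζ₃ ζ₄ 1 ε (-1)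
    hB ⟨h02, h03, h04, h23, h24, h34⟩ ⟨Or.inl rfl, hε, Or.inr rfl⟩
    ⟨by simpa using v2, by simpa using v3, by simpa using v4⟩
  have hrel1 := hrel 1 (by simp)
  simp only [← CfsgLib.Blocks.irr_charDegree_cast] at hrel1
  have hlin : 1 + (Cfsg.charDegree (ζ₂ : X → ℂ) : ℤ) + ε * (Cfsg.charDegree (ζ₃ : X → ℂ) : ℤ) -
      (Cfsg.charDegree (ζ₄ : X → ℂ) : ℤ) = 0 := by exact_mod_cast hrel1
  have hx : 1 ≤ Cfsg.charDegree (ζ₂ : X → ℂ) := CfsgLib.Blocks.irr_charDegree_pos ζ₂
  have hy : 1 ≤ Cfsg.charDegree (ζ₃ : X → ℂ) := CfsgLib.Blocks.irr_charDegree_pos ζ₃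
  have hz : 1 ≤ Cfsg.charDegree (ζ₄ : X → ℂ) := CfsgLib.Blocks.irr_charDegree_pos ζ₄
  refine ⟨_, ?_, hord⟩
  set x := Cfsg.charDegree (ζ₂ : X → ℂ)
  set y := Cfsg.charDegree (ζ₃ : X → ℂ)
  set z := Cfsg.charDegree (ζ₄ : X → ℂ)
  -- no denominator vanishes
  have hden : ((x : ℚ) + ((1 : ℤ) : ℚ)) * ((y : ℚ) + (ε : ℚ)) * ((z : ℚ) + ((-1 : ℤ) : ℚ)) ≠ 0 := fun h0 => by
    rw [h0, div_zero, mul_zero, zero_mul, zero_div] at hord
    exact Nat.cast_ne_zero.2 Nat.card_pos.ne' hord
  have hz2 : 2 ≤ z := by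
    by_contra hc
    refine hden ?_
    rw [show z = 1 by omega]
    norm_num
  have hy2 : ε = -1 → 2 ≤ y := fun he => by
    by_contra hc
    refine hden ?_
    rw [show y = 1 by omega, he]
    norm_num
  have hzq : (2 : ℚ) ≤ z := by exact_mod_cast hz2
  have hxq : (1 : ℚ) ≤ x := by exact_mod_cast hx
  have hyq : (1 : ℚ) ≤ y := by exact_mod_cast hy
  rcases hε with rfl | rfl
  · -- all signs but the last positive
    have hzxy : (z : ℚ) = 1 + x + y := by
      have h : (z : ℤ) = 1 + x + y := by omega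
      exact_mod_cast h
    push_cast
    rw [le_div_iff₀ (mul_pos (mul_pos (by linarith) (by linarith)) (by linarith)), hzxy]
    nlinarith [mul_nonneg (sub_nonneg.2 hxq) (sub_nonneg.2 hyq), mul_le_mul hxq hyq zero_le_one (by linarith),
      mul_nonneg (mul_nonneg (sub_nonneg.2 hxq) (sub_nonneg.2 hyq)) (add_nonneg (sub_nonneg.2 hxq) (sub_nonneg.2 hyq))]
  · have h2y : (2 : ℚ) ≤ y := by exact_mod_cast hy2 rfl
    push_cast
    rw [le_div_iff₀ (mul_pos (mul_pos (by linarith) (by linarith)) (by linarith))]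
    have h1 : (0 : ℚ) ≤ ((y : ℚ) - 1) * ((z : ℚ) - 1) := mul_nonneg (by linarith) (by linarith)
    nlinarith [mul_nonneg h1 (by linarith : (0 : ℚ) ≤ (x : ℚ) - 1),
      mul_nonneg (by linarith : (0 : ℚ) ≤ (x : ℚ)) (by linarith : (0 : ℚ) ≤ (y : ℚ) + z - 1)]

/-- Centralisers inside a subgroup containing them. -/
theorem card_centralizer_of_le {K : Subgroup X} {A : Set K}
    (h : Subgroup.centralizer (Subtype.val '' A : Set X) ≤ K) :
    Nat.card (Subgroup.centralizer A) = Nat.card (Subgroup.centralizer (Subtype.val '' A : Set X)) := by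
  rw [← Subgroup.card_map_of_injective K.subtype_injective]
  refine Nat.card_congr (Equiv.subtypeEquivRight fun x => ?_)
  constructor
  · rintro ⟨y, hy, rfl⟩
    rw [Subgroup.mem_centralizer_iff]
    rintro _ ⟨a, ha, rfl⟩
    exact congrArg Subtype.val (Subgroup.mem_centralizer_iff.1 hy a ha)
  · intro hx
    refine ⟨⟨x, h hx⟩, Subgroup.mem_centralizer_iff.2 fun a ha => Subtype.ext ?_, rfl⟩
    exact Subgroup.mem_centralizer_iff.1 hx _ ⟨a, ha, rfl⟩

theorem card_centralizer_singleton_of_le {K : Subgroup X} {t : K}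
    (h : Subgroup.centralizer ({(t : X)} : Set X) ≤ K) :
    Nat.card (Subgroup.centralizer ({t} : Set K)) = Nat.card (Subgroup.centralizer ({(t : X)} : Set X)) := by
  have e := card_centralizer_of_le (K := K) (A := {t}) (by simpa using h)
  simpa using e

theorem card_centralizer_pair_of_le {K : Subgroup X} {t v : K}
    (h : Subgroup.centralizer ({(t : X)} : Set X) ≤ K) :
    Nat.card (Subgroup.centralizer ({t, v} : Set K)) =
      Nat.card (Subgroup.centralizer ({(t : X), (v : X)} : Set X)) := by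
  have e := card_centralizer_of_le (K := K) (A := {t, v})
    ((Subgroup.centralizer_le (by simp)).trans h)
  simpa [Set.image_pair] using e

/-- An involution is central in some Sylow subgroup when there is one class. -/
theorem exists_sylow_central {G : Type u} [Group G] [Finite G] (hG : GWDihedral G)
    (hone : ∀ s t : G, orderOf s = 2 → orderOf t = 2 → IsConj s t) {t : G} (ht : orderOf t = 2) :
    ∃ S : Sylow 2 G, t ∈ (S : Subgroup G) ∧ ∀ s ∈ (S : Subgroup G), s * t = t * s := by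
  haveI : Fact (Nat.Prime 2) := ⟨Nat.prime_two⟩
  obtain ⟨S, n, hn, ⟨eS⟩⟩ := hG
  haveI : NeZero n := ⟨by omega⟩
  haveI : Nontrivial (S : Subgroup G) := by
    refine Finite.one_lt_card_iff_nontrivial.1 ?_
    rw [Nat.card_congr eS.toEquiv, DihedralGroup.nat_card]
    omega
  haveI := S.isPGroup'.center_nontrivial
  obtain ⟨z, hz⟩ : ∃ z : Subgroup.center (S : Subgroup G), orderOf z = 2 := by
    refine exists_prime_orderOf_dvd_card' 2 ?_
    obtain ⟨k, hk⟩ := IsPGroup.iff_card.1 (S.isPGroup'.to_subgroup (Subgroup.center (S : Subgroup G)))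
    rcases k with _ | k
    · have := Finite.one_lt_card (α := Subgroup.center (S : Subgroup G))
      rw [hk] at this
      simp at this
    · rw [hk]
      exact dvd_pow_self 2 (Nat.succ_ne_zero k)
  have hz' : orderOf (((z : (S : Subgroup G)) : G)) = 2 := by
    rw [Subgroup.orderOf_coe, Subgroup.orderOf_coe, hz]
  obtain ⟨g, hg⟩ := isConj_iff.1 (hone _ t hz' ht)
  refine ⟨g • S, ?_, fun s hs => ?_⟩
  · rw [Sylow.coe_subgroup_smul, ← hg]
    exact Subgroup.smul_mem_pointwise_smul _ (MulAut.conj g) _ (z : (S : Subgroup G)).2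
  · rw [Sylow.coe_subgroup_smul] at hs
    obtain ⟨s, hs', rfl⟩ := hs
    have h := congrArg Subtype.val (Subgroup.mem_center_iff.1 z.2 ⟨s, hs'⟩)
    simp only [Subgroup.coe_mul] at h
    rw [← hg]
    simp only [MulDistribMulAction.toMonoidEnd_apply, MulDistribMulAction.toMonoidHom_apply,
      MulAut.smul_def, MulAut.conj_apply]
    calc g * s * g⁻¹ * (g * (z : (S : Subgroup G)) * g⁻¹) = g * (s * (z : (S : Subgroup G))) * g⁻¹ := by group
      _ = g * ((z : (S : Subgroup G)) * s) * g⁻¹ := by rw [h]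
      _ = _ := by group

/-- No proper non-solvable subgroup containing an involution centraliser has one class of involutions. -/
theorem GWHyp.no_one_class {G : Type u} [Group G] [Finite G] (h : GWHyp G) {t : G} (ht : orderOf t = 2)
    {K : Subgroup G} (hK : K ≠ ⊤) (hCK : Subgroup.centralizer ({t} : Set G) ≤ K)
    (hns : ¬ Group.IsSolvable K) (hone : ∀ a b : K, orderOf a = 2 → orderOf b = 2 → IsConj a b) : False := by
  haveI := h.simple
  haveI : Fact (Nat.Prime 2) := ⟨Nat.prime_two⟩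
  obtain ⟨S, htS, htZ⟩ := exists_sylow_central h.dihedral h.all_conj ht
  obtain ⟨m, hm, ⟨eS⟩⟩ := h.dihedral.shape S
  obtain ⟨v₁, v₂, h₁, h₂, o₁, o₂, ne₁, ne₂, o₁₂⟩ := exists_reflections S hm eS htS htZ
  obtain ⟨ρ, hρ, hρ0, hρ2, hG⟩ := order_formula h.noncomm h.all_conj S hm eS ht htS htZ h₁ h₂ o₁ o₂ ne₁ ne₂ o₁₂
  have hSC : (S : Subgroup G) ≤ Subgroup.centralizer ({t} : Set G) := fun s hs =>
    Subgroup.mem_centralizer_singleton_iff.2 (htZ s hs)
  have hSK := hSC.trans hCK
  let S' : Sylow 2 K := S.subtype hSK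
  let eS' : (S' : Subgroup K) ≃* DihedralGroup m := (Subgroup.subgroupOfEquivOfLe hSK).trans eS
  have hidx : (K.index : ℚ) * Nat.card K = Nat.card G := by exact_mod_cast K.index_mul_card
  have ht' : orderOf (⟨t, hSK htS⟩ : K) = 2 := by rw [Subgroup.orderOf_mk, ht]
  have hcK : (0 : ℚ) < Nat.card K := by exact_mod_cast Nat.card_pos
  set c : ℚ := (Nat.card (Subgroup.centralizer ({t} : Set G)) : ℚ) with hc
  have hc0 : 0 < c := by rw [hc]; exact_mod_cast Nat.card_pos
  rcases Nat.lt_or_ge m 4 with hm4 | hm4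
  · obtain rfl : m = 2 := by
      obtain ⟨k, hk⟩ := IsPGroup.iff_card.1 S.isPGroup'
      rw [show Nat.card (S : Subgroup G) = 2 * m from (Nat.card_congr eS.toEquiv).trans DihedralGroup.nat_card] at hk
      by_contra hne
      obtain rfl : m = 3 := by omega
      have := Nat.prime_three.dvd_of_dvd_pow (dvd_trans ⟨2, rfl⟩ (dvd_of_eq hk))
      omega
    obtain ⟨σ, hσ, hf⟩ := four_ratio S' eS' hone hns (t := ⟨t, hSK htS⟩) htS ht'
    have hcS : Nat.card (Subgroup.centralizer ((S' : Subgroup K) : Set K)) =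
        Nat.card (Subgroup.centralizer ((S : Subgroup G) : Set G)) := by
      have e : (Subtype.val '' ((S' : Subgroup K) : Set K) : Set G) = ((S : Subgroup G) : Set G) :=
        Set.ext fun x => ⟨fun ⟨y, hy, e⟩ => e ▸ hy, fun hx => ⟨⟨x, hSK hx⟩, hx, rfl⟩⟩
      rw [card_centralizer_of_le (K := K) (by
        rw [e]; exact (Subgroup.centralizer_le (Set.singleton_subset_iff.2 htS)).trans hCK), e]
    rw [card_centralizer_singleton_of_le hCK, ← hc, hcS] at hf
    -- the same formula in the whole group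
    have hC : ∀ {v : G}, v ∈ (S : Subgroup G) → orderOf v = 2 → v ≠ t →
        Subgroup.centralizer ({t, v} : Set G) = Subgroup.centralizer ((S : Subgroup G) : Set G) := by
      intro v hv ov hvt
      refine le_antisymm (fun x hx => ?_) (Subgroup.centralizer_le (by
        rintro y (rfl | hy)
        · exact htS
        · rw [Set.mem_singleton_iff.1 hy]; exact hv))
      rw [Subgroup.mem_centralizer_iff] at hx ⊢
      intro s hs
      have ht1 : t ≠ 1 := fun e => by rw [e, orderOf_one] at ht; omega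
      have hv1 : v ≠ 1 := fun e => by rw [e, orderOf_one] at ov; omega
      have htx := hx t (Set.mem_insert _ _)
      have hvx := hx v (Set.mem_insert_of_mem _ rfl)
      haveI := Fintype.ofFinite G
      rcases CfsgLib.Blocks.involution_cases ((Nat.card_congr eS.toEquiv).trans DihedralGroup.nat_card) htS hv
          ht1 hv1 hvt (by rw [← sq, ← ht, pow_orderOf_eq_one]) s hs with rfl | rfl | rfl | rfl
      · rw [one_mul, mul_one]
      · exact htx
      · exact hvx
      · rw [mul_assoc, hvx, ← mul_assoc, htx, mul_assoc]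
    rw [hC h₁ o₁ ne₁, hC h₂ o₂ ne₂] at hG
    set a : ℚ := (Nat.card (Subgroup.centralizer ((S : Subgroup G) : Set G)) : ℚ)
    have ha : 0 < a := Nat.cast_pos.2 Nat.card_pos
    have hi : (K.index : ℚ) * σ = ρ := by
      rw [hG, hf] at hidx
      field_simp at hidx
      linarith
    have h6 : K.index < 6 := by
      have h1 : (K.index : ℚ) * (1 / 3) ≤ 15 / 8 :=
        (mul_le_mul_of_nonneg_left hσ (Nat.cast_nonneg _)).trans (hi.le.trans hρ2)
      have h2 : (K.index : ℚ) < 6 := by linarith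
      exact_mod_cast h2
    have hdvd := SmallOrder.card_dvd_factorial_index hK
    refine hns ?_
    rw [← K.index_mul_card] at hdvd
    have hodd : ¬ 2 ∣ K.index := fun h2 =>
      S.not_dvd_index (h2.trans (Subgroup.index_dvd_of_le hSK))
    have hne1 : K.index ≠ 1 := fun e => hK (Subgroup.index_eq_one.1 e)
    have h24 : Nat.card K ∣ 24 := by
      have h35 : K.index = 3 ∨ K.index = 5 := by omega
      rcases h35 with e | e <;> rw [e] at hdvd
      · exact (Nat.dvd_of_mul_dvd_mul_left (show 0 < 3 by norm_num)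
          (show 3 * Nat.card K ∣ 3 * 2 from hdvd)).trans (by norm_num)
      · exact Nat.dvd_of_mul_dvd_mul_left (show 0 < 5 by norm_num) (show 5 * Nat.card K ∣ 5 * 24 from hdvd)
    have h23 : Nat.card K ∣ 2 ^ 3 * 3 ^ 1 := h24
    obtain ⟨a', b', ha', hb', e⟩ := Nat.dvd_mul.1 h23
    obtain ⟨i, -, rfl⟩ := (Nat.dvd_prime_pow Nat.prime_two).1 ha'
    obtain ⟨j, -, rfl⟩ := (Nat.dvd_prime_pow Nat.prime_three).1 hb'
    exact CfsgLib.CharTheory.isSolvable_of_card_two_primes Nat.prime_two Nat.prime_three e.symm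
  · obtain ⟨σ, hσ, hf⟩ := shape_big hone S' hm4 eS' (t := ⟨t, hSK htS⟩) ht' htS
      (fun s hs => Subtype.ext (htZ s hs)) (v₁ := ⟨v₁, hSK h₁⟩) (v₂ := ⟨v₂, hSK h₂⟩) h₁ h₂
      (by rw [Subgroup.orderOf_mk, o₁]) (by rw [Subgroup.orderOf_mk, o₂]) (fun e => ne₁ (congrArg Subtype.val e))
      (fun e => ne₂ (congrArg Subtype.val e)) (by rw [← Subgroup.orderOf_coe]; exact o₁₂)
    rw [card_centralizer_singleton_of_le hCK, card_centralizer_pair_of_le hCK, card_centralizer_pair_of_le hCK,
      ← hc] at hf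
    have hσ' : (21 / 32 : ℚ) ≤ σ := by
      obtain ⟨x, d, hd, hx, -, hdvd, rfl⟩ := hσ.exists_x (by omega)
      exact ratio_ge hm4 hd hx hdvd
    set a₁ : ℚ := (Nat.card (Subgroup.centralizer ({t, v₁} : Set G)) : ℚ)
    set a₂ : ℚ := (Nat.card (Subgroup.centralizer ({t, v₂} : Set G)) : ℚ)
    have ha₁ : 0 < a₁ := Nat.cast_pos.2 Nat.card_pos
    have ha₂ : 0 < a₂ := Nat.cast_pos.2 Nat.card_pos
    have hi : (K.index : ℚ) * σ = ρ := by
      rw [hG, hf] at hidx
      have hne : (2 : ℚ) * c ^ 3 * (1 / a₁ + 1 / a₂) ^ 2 ≠ 0 :=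
        (mul_pos (mul_pos two_pos (pow_pos hc0 3))
          (pow_pos (add_pos (one_div_pos.2 ha₁) (one_div_pos.2 ha₂)) 2)).ne'
      exact mul_right_cancel₀ hne (by linear_combination hidx)
    have h3 : K.index < 3 := by
      have h1 : (K.index : ℚ) * (21 / 32) ≤ 45 / 32 :=
        (mul_le_mul_of_nonneg_left hσ' (Nat.cast_nonneg _)).trans (hi.le.trans (hρ.le_big hm4))
      have h2 : (K.index : ℚ) < 3 := by linarith
      exact_mod_cast h2
    have hne1 : K.index ≠ 1 := fun e => hK (Subgroup.index_eq_one.1 e)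
    have hne0 : K.index ≠ 0 := Subgroup.index_ne_zero_of_finite
    exact h.index_ne_two K (by omega)

end CfsgLib.GW
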