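import Cfsg.Agent.Lib.GW.Hyp
import Cfsg.Agent.Lib.GW.CltK.Ratio

/-!
A quasisimple subgroup whose normaliser contains an involution centraliser: first consequences.
-/

set_option autoImplicit false
set_option linter.unusedSectionVars false
set_option linter.style.haveILetI false

namespace CfsgLib.GW

open Cfsg DihedralGroup
open CfsgLib.DihedralFusion

universe u

/-- A quasisimple proper subgroup `L` normalised by the centraliser of the involution `t`. -/
structure Cfg {G : Type u} [Group G] [Finite G] (t : G) (L : Subgroup G) : Prop where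
  hyp : GWHyp G
  ord : orderOf t = 2
  qs : IsQuasisimple L
  ne_top : L ≠ ⊤
  le : Subgroup.centralizer ({t} : Set G) ≤ Subgroup.normalizer (L : Set G)

/-- A perfect subgroup normalised by a subgroup of a solvable extension lies in the kernel. -/
theorem perfect_le_of_odd_quotient {X : Type u} [Group X] [Finite X] (N : Subgroup X) [N.Normal]
    (hodd : Odd (Nat.card (X ⧸ N))) (P : Subgroup X) [Group.IsPerfect P] : P ≤ N := fun x hx =>
  (QuotientGroup.eq_one_iff x).1 (map_eq_one_of_odd hodd ((QuotientGroup.mk' N).comp P.subtype) ⟨x, hx⟩)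

namespace Cfg

variable {G : Type u} [Group G] [Finite G] {t : G} {L : Subgroup G} (c : Cfg t L)

include c

theorem perfect : Group.IsPerfect L := c.qs.1

theorem ne_bot : L ≠ ⊥ := fun e => by
  haveI := CfsgLib.isQuasisimple_nontrivial c.qs
  exact (Subgroup.nontrivial_iff_ne_bot L).1 inferInstance e

theorem not_solvable : ¬ Group.IsSolvable L := CfsgLib.isQuasisimple_not_isSolvable c.qs

theorem normalizer_ne_top : Subgroup.normalizer (L : Set G) ≠ ⊤ := fun e => by
  haveI := c.hyp.simple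
  haveI : L.Normal := Subgroup.normalizer_eq_top_iff.1 e
  rcases (inferInstance : L.Normal).eq_bot_or_eq_top with h | h
  · exact c.ne_bot h
  · exact c.ne_top h

theorem dihedral : GWDihedral L := by
  haveI := c.perfect
  exact c.hyp.dihedral.perfect_sub L c.ne_bot

theorem centralizer_odd : Odd (Nat.card (Subgroup.centralizer (L : Set G))) := by
  haveI := c.perfect
  exact c.hyp.dihedral.centralizer_odd L c.ne_bot

omit c in
theorem conj_mem_L {g x : G} (hg : g ∈ Subgroup.normalizer (L : Set G)) (hx : x ∈ L) : g * x * g⁻¹ ∈ L :=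
  (Subgroup.mem_normalizer_iff.1 hg x).1 hx

omit c in
theorem centralizer_le : Subgroup.centralizer (L : Set G) ≤ Subgroup.normalizer (L : Set G) := fun x hx => by
  rw [Subgroup.mem_normalizer_iff]
  intro y
  constructor
  · intro hy
    rw [show x * y * x⁻¹ = y by rw [← Subgroup.mem_centralizer_iff.1 hx y hy, mul_inv_cancel_right]]
    exact hy
  · intro hy
    have h := Subgroup.mem_centralizer_iff.1 hx _ hy
    rw [inv_mul_cancel_right] at h
    exact (mul_left_cancel h).symm ▸ hy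

/-- A Sylow subgroup with `t` central, and a four group of `L` inside it containing `t`. -/
theorem exists_sylow : ∃ S : Sylow 2 G, t ∈ (S : Subgroup G) ∧ (∀ s ∈ (S : Subgroup G), s * t = t * s) ∧
    ∃ U : Subgroup G, IsKleinFour U ∧ U ≤ L ∧ U ≤ (S : Subgroup G) ∧ t ∈ U := by
  haveI : Fact (Nat.Prime 2) := ⟨Nat.prime_two⟩
  obtain ⟨S, htS, htZ⟩ := exists_sylow_central c.hyp.dihedral c.hyp.all_conj c.ord
  set K := Subgroup.normalizer (L : Set G)
  have hSK : (S : Subgroup G) ≤ K := fun s hs => c.le (Subgroup.mem_centralizer_singleton_iff.2 (htZ s hs))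
  obtain ⟨U₀, hU₀⟩ := c.dihedral.exists_klein_sub
  haveI := hU₀
  haveI hU₁ : IsKleinFour (U₀.map L.subtype) :=
    isKleinFour_of_equiv (U₀.equivMapOfInjective L.subtype L.subtype_injective)
  have hU₁L : U₀.map L.subtype ≤ L := Subgroup.map_subtype_le _
  have hU₁K : U₀.map L.subtype ≤ K := hU₁L.trans Subgroup.le_normalizer
  have hp : IsPGroup 2 ((U₀.map L.subtype).subgroupOf K) :=
    (isPGroup_klein hU₁).of_equiv (Subgroup.subgroupOfEquivOfLe hU₁K).symm
  obtain ⟨g, hg⟩ := exists_conj_le (S := S.subtype hSK) hp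
  set U := (U₀.map L.subtype).map (MulAut.conj (g : G)).toMonoidHom with hU
  haveI hUk : IsKleinFour U :=
    isKleinFour_of_equiv ((U₀.map L.subtype).equivMapOfInjective (MulAut.conj (g : G)).toMonoidHom
      (MulAut.conj (g : G)).injective)
  have hUS : U ≤ (S : Subgroup G) := by
    rintro _ ⟨x, hx, rfl⟩
    exact Subgroup.mem_subgroupOf.1 (hg ⟨⟨x, hU₁K hx⟩, Subgroup.mem_subgroupOf.2 hx, rfl⟩)
  refine ⟨S, htS, htZ, U, hUk, ?_, hUS, ?_⟩
  · rintro _ ⟨x, hx, rfl⟩
    exact conj_mem_L g.2 (hU₁L hx)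
  · exact c.hyp.dihedral.no_eight hUk c.ord fun u hu => (htZ u (hUS hu)).symm

theorem t_mem : t ∈ L := by
  obtain ⟨S, -, -, U, -, hUL, -, htU⟩ := c.exists_sylow
  exact hUL htU

theorem conj_L {i j : G} (hi : i ∈ L) (hj : j ∈ L) (oi : orderOf i = 2) (oj : orderOf j = 2) :
    ∃ l ∈ L, l * i * l⁻¹ = j := by
  haveI := c.perfect
  obtain ⟨l, hl⟩ := isConj_iff.1 (c.dihedral.perfect_all_conj ⟨i, hi⟩ ⟨j, hj⟩
    (by rw [Subgroup.orderOf_mk, oi]) (by rw [Subgroup.orderOf_mk, oj]))
  exact ⟨l, l.2, congrArg Subtype.val hl⟩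

/-- The centralisers of all involutions of `L` normalise `L`. -/
theorem centralizer_invol_le {i : G} (hi : i ∈ L) (oi : orderOf i = 2) :
    Subgroup.centralizer ({i} : Set G) ≤ Subgroup.normalizer (L : Set G) := by
  intro x hx
  obtain ⟨l, hl, e⟩ := c.conj_L c.t_mem hi c.ord oi
  rw [Subgroup.mem_centralizer_singleton_iff] at hx
  have h1 : l⁻¹ * x * l ∈ Subgroup.centralizer ({t} : Set G) := by
    rw [Subgroup.mem_centralizer_singleton_iff]
    calc l⁻¹ * x * l * t = l⁻¹ * (x * (l * t * l⁻¹)) * l := by group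
      _ = l⁻¹ * (i * x) * l := by rw [e, hx]
      _ = l⁻¹ * ((l * t * l⁻¹) * x) * l := by rw [e]
      _ = t * (l⁻¹ * x * l) := by group
  have h2 := Subgroup.mul_mem _ (Subgroup.mul_mem _ (Subgroup.le_normalizer hl) (c.le h1))
    (Subgroup.inv_mem _ (Subgroup.le_normalizer hl))
  rwa [show l * (l⁻¹ * x * l) * l⁻¹ = x by group] at h2

/-- An element acting on `L` as the identity modulo the centre centralises it. -/
theorem mem_centralizer_of_comm {x : G}
    (h : ∀ l ∈ L, x * l * x⁻¹ * l⁻¹ ∈ L ∧ ∀ m ∈ L, x * l * x⁻¹ * l⁻¹ * m = m * (x * l * x⁻¹ * l⁻¹)) :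
    x ∈ Subgroup.centralizer (L : Set G) := by
  haveI := c.perfect
  have hz : ∀ l : L, (⟨x * (l : G) * x⁻¹ * (l : G)⁻¹, (h l l.2).1⟩ : L) ∈ Subgroup.center L := fun l =>
    Subgroup.mem_center_iff.2 fun m => Subtype.ext ((h l l.2).2 m m.2).symm
  let φ : L →* Subgroup.center L :=
    { toFun := fun l => ⟨_, hz l⟩
      map_one' := Subtype.ext (Subtype.ext (by show x * (1 : G) * x⁻¹ * (1 : G)⁻¹ = 1; group))
      map_mul' := fun a b => Subtype.ext (Subtype.ext (by
        show x * ((a : G) * b) * x⁻¹ * ((a : G) * b)⁻¹ =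
          (x * (a : G) * x⁻¹ * (a : G)⁻¹) * (x * (b : G) * x⁻¹ * (b : G)⁻¹)
        have e := (h b b.2).2 _ (inv_mem a.2)
        calc x * ((a : G) * b) * x⁻¹ * ((a : G) * b)⁻¹
            = x * (a : G) * x⁻¹ * ((x * (b : G) * x⁻¹ * (b : G)⁻¹) * (a : G)⁻¹) := by group
          _ = x * (a : G) * x⁻¹ * ((a : G)⁻¹ * (x * (b : G) * x⁻¹ * (b : G)⁻¹)) := by rw [e]
          _ = _ := by group)) }
  rw [Subgroup.mem_centralizer_iff]
  intro l hl
  have h1 : φ ⟨l, hl⟩ = 1 := map_eq_one_of_odd c.dihedral.center_odd φ ⟨l, hl⟩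
  have h2 : x * l * x⁻¹ * l⁻¹ = 1 := congrArg (fun z : Subgroup.center L => ((z : L) : G)) h1
  rw [mul_inv_eq_one, mul_inv_eq_iff_eq_mul] at h2
  exact h2.symm

end Cfg

end CfsgLib.GW
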