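import Cfsg.Agent.Lib.GW.Reduction

/-!
The facts on `PGL(2,q)` extended by field automorphisms of odd order used for the case of a proper
subgroup containing an involution centraliser and having a component.
-/

set_option autoImplicit false
set_option linter.unusedSectionVars false

namespace CfsgLib.GW

universe u

/-- `Q` behaves like `PGL(2,q)` extended by `f` field automorphisms, `E` like `PSL(2,q)`; `e` is the
sign with `4 ∣ q + e`. -/
structure PGLShape (Q : Type u) [Group Q] (E : Subgroup Q) (q f : ℕ) (e : ℤ) : Prop where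
  five : 5 ≤ q
  sign : e = 1 ∨ e = -1
  four_dvd : 4 ∣ (q : ℤ) + e
  f_odd : Odd f
  card : Nat.card Q = q * (q ^ 2 - 1) * f
  inner : ∀ t ∈ E, orderOf t = 2 →
    (Nat.card (Subgroup.centralizer ({t} : Set Q)) : ℤ) = 2 * ((q : ℤ) + e) * f
  outer : ∀ v ∉ E, orderOf v = 2 →
    (Nat.card (Subgroup.centralizer ({v} : Set Q)) : ℤ) = 2 * ((q : ℤ) - e) * f
  pair : ∀ t ∈ E, orderOf t = 2 → ∀ v : Q, orderOf v = 2 → v ≠ t → v * t = t * v →
    Nat.card (Subgroup.centralizer ({t, v} : Set Q)) = 4 * f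
  inner_odd : ∀ t ∈ E, orderOf t = 2 → ∀ x ∈ E, x * t = t * x → Odd (orderOf x) →
    (orderOf x : ℤ) ∣ (q : ℤ) + e
  torus : ∀ t ∈ E, orderOf t = 2 → ∀ v ∉ E, orderOf v = 2 → v * t = t * v →
    ∃ T : Subgroup Q, T ≤ E ∧ 2 * (Nat.card T : ℤ) = (q : ℤ) - e ∧
      (∀ x ∈ T, x * v = v * x ∧ t * x * t⁻¹ = x⁻¹) ∧
      (∀ x ∈ E, x * v = v * x → Odd (orderOf x) → x ∈ T) ∧
      ∀ x ∈ Subgroup.normalizer (T : Set Q), x * v = v * x
  conj : ∀ a b : Q, orderOf a = 2 → orderOf b = 2 → (a ∈ E ↔ b ∈ E) → ∃ y ∈ E, y * a * y⁻¹ = b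

end CfsgLib.GW
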