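import Cfsg.Agent.Lib.GW.CltK.Quot
import Cfsg.Agent.Lib.GW.CltK.Shape

/-!
Two conjugates of the normaliser: the torus of the outer reflection is the inverted part of the conjugate
core, and the orbit of the conjugate point is long.
-/

set_option autoImplicit false
set_option maxHeartbeats 1600000
set_option linter.unusedSectionVars false
set_option linter.style.haveILetI false

namespace CfsgLib.GW

open Cfsg

universe u

namespace Cfg

variable {G : Type u} [Group G] [Finite G] {t : G} {L : Subgroup G} (c : Cfg t L)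

local notation "K₀" => Subgroup.normalizer (L : Set G)

include c

/-- The inverted part of the centraliser of the component has `(q - e) / 2` elements, and the conjugate of
the normaliser under the exchange has at least `q (q + e) / 2` conjugates under it. -/
theorem count_orbit
    (hTI : ∀ z ∈ Subgroup.centralizer (L : Set G), z ≠ 1 → Subgroup.centralizer ({z} : Set G) ≤ K₀)
    {b : G} (hb : orderOf b = 2) (hbt : b * t = t * b) (hbK : b ∈ K₀) (hbL : b ∉ L)
    {g : G} (hgt : g * t * g⁻¹ = b) (hgb : g * b * g⁻¹ = t) {q f : ℕ} {e : ℤ}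
    (P : PGLShape (↥K₀ ⧸ (Subgroup.centralizer (L : Set G)).subgroupOf K₀) img q f e) :
    2 * (Nat.card {x : G // x ∈ Subgroup.centralizer (L : Set G) ∧ b * x * b⁻¹ = x⁻¹} : ℤ) = (q : ℤ) - e ∧
      (q : ℤ) * ((q : ℤ) + e) ≤ 2 * (((K₀).index : ℤ) - 1) := by
  classical
  set W := Subgroup.centralizer (L : Set G)
  set φ : G →* G := (MulAut.conj g).toMonoidHom with hφ
  have htK : t ∈ K₀ := Subgroup.le_normalizer c.t_mem
  have hWt : ∀ w ∈ W, w * t = t * w := fun w hw => (Subgroup.mem_centralizer_iff.1 hw t c.t_mem).symm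
  have hti := inv_self_of_orderOf_two c.ord
  have hbi := inv_self_of_orderOf_two hb
  have hgt' : g⁻¹ * b * g = t := by rw [← hgt]; group
  have hgb' : g⁻¹ * t * g = b := by rw [← hgb]; group
  have hg : g ∉ K₀ := fun hgK => hbL (hgt ▸ Cfg.conj_mem_L hgK c.t_mem)
  have hgg : g * g ∈ K₀ := c.le (Subgroup.mem_centralizer_singleton_iff.2 (by
    rw [← mul_inv_eq_iff_eq_mul, show g * g * t * (g * g)⁻¹ = g * (g * t * g⁻¹) * g⁻¹ by group, hgt, hgb]))
  set tb := qm (L := L) ⟨t, htK⟩ with htb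
  set bb := qm (L := L) ⟨b, hbK⟩ with hbb
  have htb2 : orderOf tb = 2 := by
    refine orderOf_eq_prime ?_ fun h => ?_
    · rw [htb, ← map_pow, show (⟨t, htK⟩ : K₀) ^ 2 = 1 from Subtype.ext (by
        show t ^ 2 = 1; rw [← c.ord]; exact pow_orderOf_eq_one t), map_one]
    · have h2 := odd_orderOf_of_mem c.centralizer_odd (qm_eq_one.1 h)
      rw [c.ord] at h2
      norm_num at h2
  have htbE : tb ∈ img := ⟨⟨t, htK⟩, c.t_mem, rfl⟩
  have hbbE : bb ∉ img := fun h => hbL (c.mem_of_invol (x := ⟨b, hbK⟩) hb h)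
  have hbb2 : orderOf bb = 2 := by
    refine orderOf_eq_prime ?_ fun h => hbbE (h ▸ one_mem _)
    rw [hbb, ← map_pow, show (⟨b, hbK⟩ : K₀) ^ 2 = 1 from Subtype.ext (by
      show b ^ 2 = 1; rw [← hb]; exact pow_orderOf_eq_one b), map_one]
  have hbt' : bb * tb = tb * bb := by
    rw [hbb, htb, ← map_mul, ← map_mul]
    exact congrArg qm (Subtype.ext hbt)
  haveI := img_normal (L := L)
  -- an element inverted by an involution of the same side as a conjugate lies in the image of the component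
  have hsqE : ∀ (v x : ↥K₀ ⧸ W.subgroupOf K₀), orderOf v = 2 → v * x * v⁻¹ = x⁻¹ → Odd (orderOf x) →
      x ∈ img := by
    intro v x hv hvx hxo
    have h2 : orderOf (x * v * x⁻¹) = 2 := (MulEquiv.orderOf_eq (MulAut.conj x) v).trans hv
    have hiff : v ∈ img ↔ x * v * x⁻¹ ∈ img := by
      refine ⟨fun h => Subgroup.Normal.conj_mem inferInstance v h x, fun h => ?_⟩
      have := Subgroup.Normal.conj_mem inferInstance _ h x⁻¹
      rwa [show x⁻¹ * (x * v * x⁻¹) * x⁻¹⁻¹ = v by group] at this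
    obtain ⟨y, hy, hyv⟩ := P.conj v (x * v * x⁻¹) hv h2 hiff
    refine mem_of_sq_mem hxo ?_
    have hvx' : v * x⁻¹ * v⁻¹ = x := by
      rw [show v * x⁻¹ * v⁻¹ = (v * x * v⁻¹)⁻¹ by group, hvx, inv_inv]
    have e2 : x ^ 2 = y * (v * y⁻¹ * v⁻¹) := by
      calc x ^ 2 = x * x := sq x
        _ = x * (v * x⁻¹ * v⁻¹) := by rw [hvx']
        _ = x * v * x⁻¹ * v⁻¹ := by group
        _ = y * v * y⁻¹ * v⁻¹ := by rw [hyv]
        _ = _ := by group
    rw [e2]
    exact mul_mem hy (Subgroup.Normal.conj_mem inferInstance _ (inv_mem hy) v)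
  obtain ⟨T, hTE, hTcard, hT, hTodd, hTN⟩ := P.torus tb htbE htb2 bb hbbE hbb2 hbt'
  have hT2 : Odd (Nat.card T) := by
    rw [Nat.odd_iff]
    obtain ⟨k, hk⟩ := P.four_dvd
    rcases P.sign with h | h <;> rw [h] at hTcard hk <;> omega
  have hT1 : 2 ≤ Nat.card T := by
    have := P.five
    rcases P.sign with h | h <;> rw [h] at hTcard <;> omega
  -- the elements of the conjugate core inverted by `t`
  set J := {x : G // x ∈ W.map φ ∧ t * x * t⁻¹ = x⁻¹}
  have hJcard : Nat.card {x : G // x ∈ W ∧ b * x * b⁻¹ = x⁻¹} = Nat.card J := by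
    refine Nat.card_congr (Equiv.subtypeEquiv (MulAut.conj g).toEquiv fun x => ?_)
    show x ∈ W ∧ b * x * b⁻¹ = x⁻¹ ↔ g * x * g⁻¹ ∈ W.map φ ∧ t * (g * x * g⁻¹) * t⁻¹ = (g * x * g⁻¹)⁻¹
    refine and_congr ⟨fun h => ⟨x, h, rfl⟩, ?_⟩ ?_
    · rintro ⟨y, hy, e'⟩
      exact (show y = x from (MulAut.conj g).injective e') ▸ hy
    · rw [← hgb, show g * b * g⁻¹ * (g * x * g⁻¹) * (g * b * g⁻¹)⁻¹ = g * (b * x * b⁻¹) * g⁻¹ by group,
        show (g * x * g⁻¹)⁻¹ = g * x⁻¹ * g⁻¹ by group]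
      exact ⟨fun h => by rw [h], fun h => mul_left_cancel (mul_right_cancel h)⟩
  have hWφb : ∀ x ∈ W.map φ, x * b = b * x := by
    rintro _ ⟨w, hw, rfl⟩
    show g * w * g⁻¹ * b = b * (g * w * g⁻¹)
    rw [← hgt, show g * w * g⁻¹ * (g * t * g⁻¹) = g * (w * t) * g⁻¹ by group, hWt w hw]
    group
  -- lifting the torus
  have hlift : ∀ x : T, ∃ z : G, ∃ hz : z ∈ K₀, qm ⟨z, hz⟩ = (x : ↥K₀ ⧸ W.subgroupOf K₀) ∧
      t * z * t⁻¹ = z⁻¹ ∧ z ∈ W.map φ ∧ z ∈ L := by
    intro x
    obtain ⟨k, hk⟩ := id hT2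
    set x' := (x : ↥K₀ ⧸ W.subgroupOf K₀) ^ (k + 1) with hx'
    have hx'T : x' ∈ T := pow_mem x.2 _
    have hx'2 : x' ^ 2 = (x : ↥K₀ ⧸ W.subgroupOf K₀) := by
      rw [hx', ← pow_mul, show (k + 1) * 2 = (2 * k + 1) + 1 by ring, pow_succ, ← hk,
        show (x : ↥K₀ ⧸ W.subgroupOf K₀) ^ Nat.card T = 1 from congrArg Subtype.val (pow_card_eq_one' (x := x)),
        one_mul]
    obtain ⟨h, hh⟩ := QuotientGroup.mk'_surjective _ x'
    have hhb : (h : G) * b * (h : G)⁻¹ * b⁻¹ ∈ W := by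
      refine (qm_eq_one (x := h * ⟨b, hbK⟩ * h⁻¹ * ⟨b, hbK⟩⁻¹)).1 ?_
      rw [map_mul, map_mul, map_mul, map_inv, map_inv]
      show qm h * bb * (qm h)⁻¹ * bb⁻¹ = 1
      rw [show qm h = x' from hh, (hT x' hx'T).1, mul_inv_cancel_right, mul_inv_cancel]
    obtain ⟨r, hr, hrb⟩ := exists_lift c.centralizer_odd hb hhb
    set h₁ := r⁻¹ * (h : G) with hh₁
    have h₁K : h₁ ∈ K₀ := mul_mem (inv_mem (Cfg.centralizer_le hr)) h.2
    have hq₁ : qm (⟨h₁, h₁K⟩ : K₀) = x' := by
      rw [show (⟨h₁, h₁K⟩ : K₀) = ⟨r, Cfg.centralizer_le hr⟩⁻¹ * h from rfl, map_mul, map_inv,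
        qm_eq_one (x := ⟨r, Cfg.centralizer_le hr⟩) |>.2 hr, inv_one, one_mul]
      exact hh
    set z := h₁ * t * h₁⁻¹ * t with hz
    have hzK : z ∈ K₀ := mul_mem (mul_mem (mul_mem h₁K htK) (inv_mem h₁K)) htK
    have htt : tb * tb = 1 := by rw [← sq, ← htb2]; exact pow_orderOf_eq_one tb
    have hqz : qm ⟨z, hzK⟩ = (x : ↥K₀ ⧸ W.subgroupOf K₀) := by
      rw [show (⟨z, hzK⟩ : K₀) = ⟨h₁, h₁K⟩ * ⟨t, htK⟩ * ⟨h₁, h₁K⟩⁻¹ * ⟨t, htK⟩ from rfl, map_mul, map_mul, map_mul,
        map_inv, hq₁]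
      show x' * tb * x'⁻¹ * tb = _
      have h3 := (hT x' hx'T).2
      rw [inv_self_of_orderOf_two htb2] at h3
      calc x' * tb * x'⁻¹ * tb = x' * tb * (tb * x' * tb) * tb := by rw [h3]
        _ = x' * (tb * tb) * x' * (tb * tb) := by group
        _ = (x : ↥K₀ ⧸ W.subgroupOf K₀) := by rw [htt, mul_one, mul_one, ← sq, hx'2]
    have hzt : t * z * t⁻¹ = z⁻¹ := by
      refine eq_inv_of_mul_eq_one_left ?_
      have h1 : t * t = 1 := by rw [← sq, ← c.ord]; exact pow_orderOf_eq_one t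
      rw [hti, hz]
      calc t * (h₁ * t * h₁⁻¹ * t) * t * (h₁ * t * h₁⁻¹ * t)
          = t * (h₁ * t * h₁⁻¹) * (t * t) * (h₁ * t * h₁⁻¹) * t := by group
        _ = t * (h₁ * t * h₁⁻¹) * 1 * (h₁ * t * h₁⁻¹) * t := by rw [h1]
        _ = t * (h₁ * (t * t) * h₁⁻¹) * t := by group
        _ = 1 := by rw [h1, mul_one, mul_inv_cancel, mul_one, h1]
    have hzb : z * b = b * z := by
      have h1 : Commute h₁ b := hrb
      have h2 : Commute t b := hbt.symm
      exact (((h1.mul_left h2).mul_left h1.inv_left).mul_left h2).eq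
    -- the order of the lift divides that of the torus
    have hzo : orderOf z ∣ Nat.card T := by
      refine orderOf_dvd_of_pow_eq_one ?_
      have h1 : z ^ Nat.card T ∈ W := (qm_eq_one (x := ⟨z, hzK⟩ ^ Nat.card T)).1 (by
        rw [map_pow, hqz]
        exact congrArg Subtype.val (pow_card_eq_one' (x := x)))
      have h2 : (z ^ Nat.card T) ^ 2 = 1 := by
        have h3 : t * z ^ Nat.card T * t⁻¹ = (z ^ Nat.card T)⁻¹ := by rw [← conj_pow, hzt, inv_pow]
        rw [← hWt _ h1, mul_inv_cancel_right, eq_inv_iff_mul_eq_one, ← sq] at h3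
        exact h3
      exact Subgroup.mem_bot.1 (mem_of_sq_mem (H := ⊥) (odd_orderOf_of_mem c.centralizer_odd h1)
        (Subgroup.mem_bot.2 h2))
    -- in the conjugate the lift is trivial modulo the core
    set y := g⁻¹ * z * g with hy
    have hyt : y * t = t * y := by
      rw [hy, ← hgt']
      calc g⁻¹ * z * g * (g⁻¹ * b * g) = g⁻¹ * (z * b) * g := by group
        _ = g⁻¹ * (b * z) * g := by rw [hzb]
        _ = g⁻¹ * b * g * (g⁻¹ * z * g) := by group
    have hyb : b * y * b⁻¹ = y⁻¹ := by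
      rw [hy, ← hgb', show g⁻¹ * t * g * (g⁻¹ * z * g) * (g⁻¹ * t * g)⁻¹ = g⁻¹ * (t * z * t⁻¹) * g by group, hzt]
      group
    have hyK : y ∈ K₀ := c.le (Subgroup.mem_centralizer_singleton_iff.2 hyt)
    have hyo : orderOf y ∣ Nat.card T := by
      have : orderOf y = orderOf z := by
        rw [hy]
        simpa using MulEquiv.orderOf_eq (MulAut.conj g⁻¹) z
      rwa [this]
    set yy := qm (L := L) ⟨y, hyK⟩ with hyy
    have hyyo : orderOf yy ∣ Nat.card T := (orderOf_map_dvd _ _).trans (by rwa [Subgroup.orderOf_mk])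
    have hyyodd : Odd (orderOf yy) := hT2.of_dvd_nat hyyo
    have hyyE : yy ∈ img := hsqE bb yy hbb2 (by
      rw [hbb, hyy, ← map_mul, ← map_inv, ← map_mul, ← map_inv]
      exact congrArg qm (Subtype.ext hyb)) hyyodd
    have hyy1 : yy = 1 := by
      have h1 := P.inner_odd tb htbE htb2 yy hyyE (by
        rw [htb, hyy, ← map_mul, ← map_mul]
        exact congrArg qm (Subtype.ext hyt)) hyyodd
      have h2 : (orderOf yy : ℤ) ∣ (Nat.card T : ℤ) := by exact_mod_cast hyyo
      have h3 : (orderOf yy : ℤ) ∣ 2 := by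
        rcases P.sign with he | he <;> rw [he] at h1 hTcard
        · have h4 := dvd_sub h1 (h2.mul_left 2)
          rwa [hTcard, show (q : ℤ) + 1 - ((q : ℤ) - 1) = 2 by ring] at h4
        · have h4 := dvd_sub (h2.mul_left 2) h1
          rwa [hTcard, show (q : ℤ) - -1 - ((q : ℤ) + -1) = 2 by ring] at h4
      exact orderOf_eq_one_iff.1 (Nat.eq_one_of_dvd_coprimes (Nat.coprime_two_left.2 hyyodd)
        (by exact_mod_cast h3) dvd_rfl)
    refine ⟨z, hzK, hqz, hzt, ⟨y, qm_eq_one.1 hyy1, ?_⟩, ?_⟩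
    · show g * y * g⁻¹ = z
      rw [hy]; group
    · exact c.mem_of_inverted (x := ⟨z, hzK⟩) hzt (hqz ▸ hTE x.2)
  choose zf hzfK hzfq hzft hzfW hzfL using hlift
  let toJ : T → J := fun x => ⟨zf x, hzfW x, hzft x⟩
  have htoJ : Function.Injective toJ := fun x x' h => Subtype.ext (by
    have h' : zf x = zf x' := congrArg (fun z : J => (z : G)) h
    rw [← hzfq x, ← hzfq x']
    exact congrArg qm (Subtype.ext h'))
  -- the conjugate core lies in the normaliser
  obtain ⟨x₀, hx₀⟩ : ∃ x₀ : T, x₀ ≠ 1 := by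
    haveI : Nontrivial T := Finite.one_lt_card_iff_nontrivial.1 (by omega)
    exact exists_ne 1
  have hz₀ : zf x₀ ≠ 1 := fun h => hx₀ (Subtype.ext (by
    rw [← hzfq x₀, show (⟨zf x₀, hzfK x₀⟩ : K₀) = 1 from Subtype.ext h, map_one]
    rfl))
  have hWK : ∀ w ∈ W, g⁻¹ * w * g ∈ K₀ := by
    intro w hw
    obtain ⟨u, hu, hue⟩ := hzfW x₀
    have hu1 : u ≠ 1 := fun h => hz₀ (by rw [← hue, h, map_one])
    refine hTI u hu hu1 (Subgroup.mem_centralizer_singleton_iff.2 ?_)
    have hcomm := Subgroup.mem_centralizer_iff.1 hw _ (hzfL x₀)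
    rw [← hue] at hcomm
    calc g⁻¹ * w * g * u = g⁻¹ * (w * (g * u * g⁻¹)) * g := by group
      _ = g⁻¹ * ((g * u * g⁻¹) * w) * g := by rw [show g * u * g⁻¹ = φ u from rfl, hcomm]
      _ = u * (g⁻¹ * w * g) := by group
  have hφW : ∀ x ∈ W.map φ, x ∈ K₀ := by
    rintro _ ⟨w, hw, rfl⟩
    have h1 := mul_mem (mul_mem hgg (hWK w hw)) (inv_mem hgg)
    rwa [show g * g * (g⁻¹ * w * g) * (g * g)⁻¹ = g * w * g⁻¹ by group] at h1
  -- trivial intersection
  have hdisj : ∀ x ∈ W, x ∈ W.map φ → x = 1 := by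
    intro x hx hxφ
    by_contra hx1
    obtain ⟨w, hw, rfl⟩ := hxφ
    haveI := c.perfect
    haveI : Group.IsPerfect (L.map φ) := Group.IsPerfect.map φ
    have hle : L.map φ ≤ K₀ := by
      rintro _ ⟨l, hl, rfl⟩
      refine hTI _ hx hx1 (Subgroup.mem_centralizer_singleton_iff.2 ?_)
      rw [← map_mul, ← map_mul, Subgroup.mem_centralizer_iff.1 hw l hl]
    have hLL := c.perfect_le hle
    have heq : L.map φ = L := Subgroup.eq_of_le_of_card_ge hLL
      (by rw [Subgroup.card_map_of_injective (MulAut.conj g).injective])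
    exact hg (Subgroup.mem_normalizer_fintype fun l hl => heq.le ⟨l, hl, rfl⟩)
  -- the inverted elements map into the torus
  have hJT : ∀ j : J, qm (⟨j.1, hφW _ j.2.1⟩ : K₀) ∈ T := by
    intro j
    have hodd : Odd (orderOf (qm (⟨j.1, hφW _ j.2.1⟩ : K₀))) := by
      have h1 : Odd (Nat.card (W.map φ)) := c.centralizer_odd.of_dvd_nat (Subgroup.card_map_dvd W φ)
      refine (odd_orderOf_of_mem h1 j.2.1).of_dvd_nat ?_
      exact (orderOf_map_dvd _ _).trans (by rw [Subgroup.orderOf_mk])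
    refine hTodd _ (hsqE tb _ htb2 ?_ hodd) ?_ hodd
    · rw [htb, ← map_mul, ← map_inv, ← map_mul, ← map_inv]
      exact congrArg qm (Subtype.ext j.2.2)
    · rw [hbb, ← map_mul, ← map_mul]
      exact congrArg qm (Subtype.ext (hWφb _ j.2.1))
  let fromJ : J → T := fun j => ⟨_, hJT j⟩
  have hfromJ : Function.Injective fromJ := fun j j' h => Subtype.ext (by
    have h1 : qm ((⟨j.1, hφW _ j.2.1⟩ : K₀)⁻¹ * ⟨j'.1, hφW _ j'.2.1⟩) = 1 := by
      have h0 : qm (⟨j.1, hφW _ j.2.1⟩ : K₀) = qm ⟨j'.1, hφW _ j'.2.1⟩ := congrArg Subtype.val h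
      rw [map_mul, map_inv, h0, inv_mul_cancel]
    exact inv_mul_eq_one.1 (hdisj _ (qm_eq_one.1 h1) (mul_mem (inv_mem j.2.1) j'.2.1)))
  have hJ : Nat.card J = Nat.card T :=
    le_antisymm (Nat.card_le_card_of_injective fromJ hfromJ) (Nat.card_le_card_of_injective toJ htoJ)
  refine ⟨by rw [hJcard, hJ]; exact hTcard, ?_⟩
  -- the orbit of the conjugate point
  set D : Subgroup K₀ := ((K₀).map φ).subgroupOf K₀ with hD
  have hDv : D.map qm ≤ Subgroup.centralizer {bb} := by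
    rintro _ ⟨d, hd, rfl⟩
    rw [Subgroup.mem_centralizer_singleton_iff]
    refine hTN _ ?_
    have hnorm : ∀ x ∈ W.map φ, (d : G) * x * (d : G)⁻¹ ∈ W.map φ := by
      rintro _ ⟨w, hw, rfl⟩
      obtain ⟨k, hk, hkd⟩ := Subgroup.mem_subgroupOf.1 hd
      refine ⟨k * w * k⁻¹, ?_, by rw [map_mul, map_mul, map_inv, hkd]⟩
      exact Subgroup.mem_subgroupOf.1
        ((inferInstance : (W.subgroupOf K₀).Normal).conj_mem ⟨w, Cfg.centralizer_le hw⟩ hw ⟨k, hk⟩)
    refine Subgroup.mem_normalizer_fintype fun x hx => ?_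
    have hzW := hzfW ⟨x, hx⟩
    have hdz := hnorm _ hzW
    have hqeq : qm d * x * (qm d)⁻¹ = qm (⟨(d : G) * zf ⟨x, hx⟩ * (d : G)⁻¹, hφW _ hdz⟩ : K₀) := by
      rw [show (⟨(d : G) * zf ⟨x, hx⟩ * (d : G)⁻¹, hφW _ hdz⟩ : K₀) = d * ⟨zf ⟨x, hx⟩, hzfK _⟩ * d⁻¹ from rfl,
        map_mul, map_mul, map_inv, hzfq]
    have hE' : qm d * x * (qm d)⁻¹ ∈ img := Subgroup.Normal.conj_mem inferInstance x (hTE hx) _
    refine hTodd _ hE' ?_ ?_
    · rw [hqeq, hbb, ← map_mul, ← map_mul]
      exact congrArg qm (Subtype.ext (hWφb _ hdz))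
    · exact odd_orderOf_of_mem (hT2) (x := x) hx |> fun h => by
        rw [show orderOf (qm d * x * (qm d)⁻¹) = orderOf x from MulEquiv.orderOf_eq (MulAut.conj (qm d)) x]
        exact h
  -- the number of points
  have horb : D.index + 1 ≤ (K₀).index := by
    let F : (↥K₀ ⧸ D) ⊕ Unit → G ⧸ K₀ := Sum.elim
      (Quotient.lift (fun k : K₀ => ((k : G) * g : G ⧸ K₀)) fun a a' haa => by
        have haa' : a⁻¹ * a' ∈ D := QuotientGroup.leftRel_apply.1 haa
        obtain ⟨k, hk, e'⟩ := Subgroup.mem_subgroupOf.1 haa'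
        refine QuotientGroup.eq.2 ?_
        have e'' : (a : G)⁻¹ * a' = g * k * g⁻¹ := e'.symm
        rw [mul_inv_rev, show g⁻¹ * (a : G)⁻¹ * ((a' : G) * g) = g⁻¹ * ((a : G)⁻¹ * a') * g by group, e'']
        rw [show g⁻¹ * (g * k * g⁻¹) * g = k by group]
        exact hk)
      fun _ => ((1 : G) : G ⧸ K₀)
    have hF : Function.Injective F := by
      rintro (a | a) (a' | a') h
      · induction a using QuotientGroup.induction_on with
        | _ a =>
          induction a' using QuotientGroup.induction_on with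
          | _ a' =>
            refine congrArg Sum.inl (QuotientGroup.eq.2 ?_)
            have h' := QuotientGroup.eq.1 (show ((a : G) * g : G ⧸ K₀) = ((a' : G) * g : G) from h)
            refine ⟨((a : G) * g)⁻¹ * ((a' : G) * g), h', ?_⟩
            show g * (((a : G) * g)⁻¹ * ((a' : G) * g)) * g⁻¹ = (a : G)⁻¹ * a'
            group
      · induction a using QuotientGroup.induction_on with
        | _ a =>
          exfalso
          have h' := QuotientGroup.eq.1 (show ((a : G) * g : G ⧸ K₀) = ((1 : G) : G ⧸ K₀) from h)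
          rw [mul_one, inv_mem_iff] at h'
          exact hg ((Subgroup.mul_mem_cancel_left _ a.2).1 h')
      · induction a' using QuotientGroup.induction_on with
        | _ a =>
          exfalso
          have h' := QuotientGroup.eq.1 (show ((1 : G) : G ⧸ K₀) = ((a : G) * g : G ⧸ K₀) from h)
          rw [inv_one, one_mul] at h'
          exact hg ((Subgroup.mul_mem_cancel_left _ a.2).1 h')
      · rfl
    have := Nat.card_le_card_of_injective F hF
    rwa [Nat.card_sum, Nat.card_unique (α := Unit), ← Subgroup.index_eq_card, ← Subgroup.index_eq_card] at this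
  have hcardD : (Nat.card D : ℤ) ≤ Nat.card (W.subgroupOf K₀) * (2 * ((q : ℤ) - e) * f) := by
    have h1 : Nat.card D ≤ Nat.card (W.subgroupOf K₀) * Nat.card (D.map qm) := by
      have h2 : Nat.card D = Nat.card (qm.comp D.subtype).ker * Nat.card (D.map qm) := by
        rw [show D.map qm = (qm.comp D.subtype).range by rw [MonoidHom.range_comp, Subgroup.range_subtype],
          ← Nat.card_congr (QuotientGroup.quotientKerEquivRange (qm.comp D.subtype)).toEquiv, mul_comm]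
        exact Subgroup.card_eq_card_quotient_mul_card_subgroup _
      rw [h2]
      refine Nat.mul_le_mul_right _ (Nat.card_le_card_of_injective
        (fun x => (⟨(x : D), (QuotientGroup.eq_one_iff _).1 x.2⟩ : W.subgroupOf K₀)) fun x x' h => ?_)
      exact Subtype.ext (Subtype.ext (congrArg (fun z : W.subgroupOf K₀ => (z : K₀)) h))
    have h2 := Subgroup.card_le_of_le hDv
    have h3 := P.outer bb hbbE hbb2
    calc (Nat.card D : ℤ) ≤ (Nat.card (W.subgroupOf K₀) : ℤ) * (Nat.card (D.map qm) : ℤ) := by exact_mod_cast h1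
      _ ≤ (Nat.card (W.subgroupOf K₀) : ℤ) * (2 * ((q : ℤ) - e) * f) :=
          mul_le_mul_of_nonneg_left (by rw [← h3]; exact_mod_cast h2) (by positivity)
  have hKcard : (Nat.card K₀ : ℤ) = Nat.card (W.subgroupOf K₀) * ((q : ℤ) * ((q : ℤ) ^ 2 - 1) * f) := by
    have h1 := (W.subgroupOf K₀).card_mul_index
    rw [Subgroup.index_eq_card, P.card] at h1
    rw [← h1]
    have : 1 ≤ q ^ 2 := Nat.one_le_pow _ _ (by linarith [P.five])
    push_cast [Nat.cast_sub this]
    ring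
  have hDi : (Nat.card D : ℤ) * (D.index : ℤ) = Nat.card K₀ := by exact_mod_cast D.card_mul_index
  have hq5 := P.five
  have hf0 : 0 < f := P.f_odd.pos
  have hw0 : 0 < Nat.card (W.subgroupOf K₀) := Nat.card_pos
  have hfac : (q : ℤ) ^ 2 - 1 = ((q : ℤ) - e) * ((q : ℤ) + e) := by
    rcases P.sign with h | h <;> rw [h] <;> ring
  have hpos : (0 : ℤ) < (Nat.card (W.subgroupOf K₀) : ℤ) * ((q : ℤ) - e) * f := by
    have : (0 : ℤ) < (q : ℤ) - e := by rcases P.sign with h | h <;> omega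
    positivity
  have hfin : (q : ℤ) * ((q : ℤ) + e) ≤ 2 * (D.index : ℤ) := by
    refine le_of_mul_le_mul_left ?_ hpos
    calc (Nat.card (W.subgroupOf K₀) : ℤ) * ((q : ℤ) - e) * f * ((q : ℤ) * ((q : ℤ) + e))
        = Nat.card K₀ := by rw [hKcard, hfac]; ring
      _ = (Nat.card D : ℤ) * (D.index : ℤ) := hDi.symm
      _ ≤ (Nat.card (W.subgroupOf K₀) : ℤ) * (2 * ((q : ℤ) - e) * f) * (D.index : ℤ) :=
          mul_le_mul_of_nonneg_right hcardD (by positivity)
      _ = (Nat.card (W.subgroupOf K₀) : ℤ) * ((q : ℤ) - e) * f * (2 * (D.index : ℤ)) := by ring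
  have horb' : (D.index : ℤ) + 1 ≤ (K₀).index := by exact_mod_cast horb
  linarith

end Cfg

end CfsgLib.GW
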