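import Cfsg.Agent.Lib.Basic
import Mathlib.GroupTheory.OrderOfElement

/-!
An involution acting on a subgroup of odd order: square roots and the lifting of centralising elements.
-/

set_option autoImplicit false
set_option linter.unusedSectionVars false

namespace CfsgLib.GW

variable {X : Type*} [Group X]

theorem inv_self_of_orderOf_two {v : X} (hv : orderOf v = 2) : v⁻¹ = v :=
  inv_eq_of_mul_eq_one_right (by rw [← sq, ← hv, pow_orderOf_eq_one])

/-- An element of odd order is a power of its square. -/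
theorem mem_of_sq_mem {H : Subgroup X} {x : X} (ho : Odd (orderOf x)) (h : x ^ 2 ∈ H) : x ∈ H := by
  obtain ⟨k, hk⟩ := ho
  have e : (x ^ 2) ^ (k + 1) = x := by
    rw [← pow_mul, show 2 * (k + 1) = orderOf x + 1 by omega, pow_succ, pow_orderOf_eq_one, one_mul]
  exact e ▸ pow_mem h _

variable [Finite X]

theorem odd_orderOf_of_mem {N : Subgroup X} (hN : Odd (Nat.card N)) {x : X} (hx : x ∈ N) :
    Odd (orderOf x) :=
  hN.of_dvd_nat (N.orderOf_dvd_natCard hx)

/-- A conjugate `w v` of the involution `v`, with `w` of odd order, is the conjugate by a power of `w`. -/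
theorem exists_root {v : X} {w : X} (hinv : v * w * v⁻¹ = w⁻¹) (ho : Odd (orderOf w)) :
    ∃ k : ℕ, v * w ^ k * v⁻¹ = (w ^ k)⁻¹ ∧ (w ^ k) ^ 2 = w ∧ w ^ k * v * (w ^ k)⁻¹ = w * v := by
  obtain ⟨k, hk⟩ := ho
  have hpow : ∀ j : ℕ, v * w ^ j * v⁻¹ = (w ^ j)⁻¹ := fun j => by
    rw [← conj_pow, hinv, inv_pow]
  have hsq : (w ^ (k + 1)) ^ 2 = w := by
    rw [← pow_mul, show (k + 1) * 2 = orderOf w + 1 by omega, pow_succ, pow_orderOf_eq_one, one_mul]
  refine ⟨k + 1, hpow _, hsq, ?_⟩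
  have h := hpow (k + 1)
  rw [mul_inv_eq_iff_eq_mul] at h
  rw [show w * v = (w ^ (k + 1)) ^ 2 * v by rw [hsq], sq, mul_assoc, mul_assoc, mul_right_inj]
  have h2 : v * (w ^ (k + 1))⁻¹ = w ^ (k + 1) * v := by
    have := hpow (k + 1)
    rw [mul_inv_eq_iff_eq_mul] at this
    calc v * (w ^ (k + 1))⁻¹ = (w ^ (k + 1)) * ((w ^ (k + 1))⁻¹ * v) * (w ^ (k + 1))⁻¹ := by group
      _ = (w ^ (k + 1)) * (v * w ^ (k + 1)) * (w ^ (k + 1))⁻¹ := by rw [this]
      _ = w ^ (k + 1) * v := by group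
  exact h2

/-- An element centralising an involution modulo a subgroup of odd order is, up to that subgroup, an
element centralising it. -/
theorem exists_lift {N : Subgroup X} (hN : Odd (Nat.card N)) {v : X} (hv : orderOf v = 2) {h : X}
    (hh : h * v * h⁻¹ * v⁻¹ ∈ N) :
    ∃ r ∈ N, r⁻¹ * h * v = v * (r⁻¹ * h) := by
  set w := h * v * h⁻¹ * v⁻¹ with hw
  have hvi := inv_self_of_orderOf_two hv
  have hvv : v * v = 1 := by rw [← sq, ← hv, pow_orderOf_eq_one]
  have hinv : v * w * v⁻¹ = w⁻¹ := by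
    rw [eq_inv_iff_mul_eq_one, hw, hvi]
    calc v * (h * v * h⁻¹ * v) * v * (h * v * h⁻¹ * v)
        = v * (h * v * h⁻¹) * (v * v) * (h * v * h⁻¹) * v := by group
      _ = v * (h * v * h⁻¹) * 1 * (h * v * h⁻¹) * v := by rw [hvv]
      _ = v * (h * (v * v) * h⁻¹) * v := by group
      _ = 1 := by rw [hvv, mul_one, mul_inv_cancel, mul_one, hvv]
  obtain ⟨k, -, -, hk⟩ := exists_root hinv (odd_orderOf_of_mem hN hh)
  refine ⟨w ^ k, pow_mem hh k, ?_⟩
  have e : w * v = h * v * h⁻¹ := by rw [hw]; group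
  rw [e] at hk
  calc (w ^ k)⁻¹ * h * v = (w ^ k)⁻¹ * (h * v * h⁻¹) * h := by group
    _ = (w ^ k)⁻¹ * (w ^ k * v * (w ^ k)⁻¹) * h := by rw [hk]
    _ = v * ((w ^ k)⁻¹ * h) := by group

/-- The number of inverted elements is the index of the centraliser. -/
theorem card_inverted {N : Subgroup X} (hN : Odd (Nat.card N)) {v : X} (hv : orderOf v = 2)
    (hvN : ∀ x ∈ N, v * x * v⁻¹ ∈ N) :
    Nat.card {x : X // x ∈ N ∧ v * x * v⁻¹ = x⁻¹} *
        Nat.card (N ⊓ Subgroup.centralizer ({v} : Set X) : Subgroup X) = Nat.card N := by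
  rw [← Nat.card_prod]
  refine Nat.card_eq_of_bijective
    (fun p => (⟨p.1.1 * p.2.1, mul_mem p.1.2.1 p.2.2.1⟩ : N)) ⟨fun p q h => ?_, fun x => ?_⟩
  · have h' : (p.1 : X) * p.2 = (q.1 : X) * q.2 := congrArg Subtype.val h
    have hp := Subgroup.mem_centralizer_singleton_iff.1 p.2.2.2
    have hq := Subgroup.mem_centralizer_singleton_iff.1 q.2.2.2
    have hc : ∀ a : X, a * v = v * a → v * a * v⁻¹ = a := fun a ha => by
      rw [← ha, mul_inv_cancel_right]
    have e : (p.1 : X) ^ 2 = (q.1 : X) ^ 2 := by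
      have h1 := congrArg (fun z => v * z * v⁻¹) h'
      rw [show v * ((p.1 : X) * p.2) * v⁻¹ = v * (p.1 : X) * v⁻¹ * (v * p.2 * v⁻¹) by group,
        show v * ((q.1 : X) * q.2) * v⁻¹ = v * (q.1 : X) * v⁻¹ * (v * q.2 * v⁻¹) by group,
        p.1.2.2, q.1.2.2, hc _ hp, hc _ hq] at h1
      have e1 : (p.2 : X) = (p.1 : X)⁻¹ * ((q.1 : X) * q.2) := by rw [← h', inv_mul_cancel_left]
      rw [e1, ← mul_assoc, ← mul_assoc, mul_left_inj, ← mul_inv_rev, ← sq, inv_mul_eq_iff_eq_mul,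
        eq_comm, mul_inv_eq_iff_eq_mul, ← sq] at h1
      exact h1
    have e2 : (p.1 : X) = q.1 := by
      have hp1 := odd_orderOf_of_mem hN p.1.2.1
      have hq1 := odd_orderOf_of_mem hN q.1.2.1
      obtain ⟨k, hk⟩ := hN
      have hpow : ∀ a ∈ N, a = (a ^ 2) ^ (k + 1) := fun a ha => by
        rw [← pow_mul, show 2 * (k + 1) = Nat.card N + 1 by omega, pow_succ,
          show a ^ Nat.card N = 1 from congrArg Subtype.val (pow_card_eq_one' (x := (⟨a, ha⟩ : N))), one_mul]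
      rw [hpow _ p.1.2.1, hpow _ q.1.2.1, e]
    rw [e2] at h'
    exact Prod.ext (Subtype.ext e2) (Subtype.ext (mul_left_cancel h'))
  · have hmem : (x : X) * v * (x : X)⁻¹ * v⁻¹ ∈ N := by
      rw [show (x : X) * v * (x : X)⁻¹ * v⁻¹ = x * (v * (x : X)⁻¹ * v⁻¹) by group]
      exact mul_mem x.2 (hvN _ (inv_mem x.2))
    set w := (x : X) * v * (x : X)⁻¹ * v⁻¹ with hw
    have hvi := inv_self_of_orderOf_two hv
    have hvv : v * v = 1 := by rw [← sq, ← hv, pow_orderOf_eq_one]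
    have hinv : v * w * v⁻¹ = w⁻¹ := by
      rw [hw, hvi, mul_inv_rev, mul_inv_rev, mul_inv_rev, inv_inv, hvi]
      simp only [mul_assoc, hvv, mul_one]
    obtain ⟨k, hk1, -, hk⟩ := exists_root hinv (odd_orderOf_of_mem hN hmem)
    have e : w * v = (x : X) * v * (x : X)⁻¹ := by rw [hw]; group
    rw [e] at hk
    refine ⟨(⟨w ^ k, pow_mem hmem k, hk1⟩, ⟨(w ^ k)⁻¹ * x, N.mul_mem (N.inv_mem (N.pow_mem hmem k)) x.2,
      Subgroup.mem_centralizer_singleton_iff.2 ?_⟩), Subtype.ext (mul_inv_cancel_left _ _)⟩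
    calc (w ^ k)⁻¹ * (x : X) * v = (w ^ k)⁻¹ * ((x : X) * v * (x : X)⁻¹) * x := by group
      _ = (w ^ k)⁻¹ * (w ^ k * v * (w ^ k)⁻¹) * x := by rw [hk]
      _ = v * ((w ^ k)⁻¹ * x) := by group

end CfsgLib.GW
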