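import Cfsg.Agent.Lib.GW.CltK.Basic
import Cfsg.Agent.Lib.GW.IIb.LocalBasic

/-!
An involution outside the component: the Sylow subgroup, its two classes of reflections and the element
exchanging the central involution with the outer reflection.
-/

set_option autoImplicit false
set_option linter.unusedSectionVars false
set_option linter.style.haveILetI false

namespace CfsgLib.GW

open Cfsg DihedralGroup
open CfsgLib.DihedralFusion

universe u

variable {G : Type u} [Group G] [Finite G]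

/-- In a dihedral 2-group every involution but the central one is conjugate to one of two reflections
generating it. -/
theorem reflection_conj (S : Sylow 2 G) {m : ℕ} (hm : 4 ≤ m) (eS : (S : Subgroup G) ≃* DihedralGroup m)
    {t : G} (ht : orderOf t = 2) (htS : t ∈ (S : Subgroup G)) (htZ : ∀ s ∈ (S : Subgroup G), s * t = t * s)
    {w₁ w₂ : G} (h₁ : w₁ ∈ (S : Subgroup G)) (h₂ : w₂ ∈ (S : Subgroup G)) (o₁ : orderOf w₁ = 2)
    (o₂ : orderOf w₂ = 2) (o₁₂ : orderOf (w₁ * w₂) = m)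
    {x : G} (hx : x ∈ (S : Subgroup G)) (ox : orderOf x = 2) (hxt : x ≠ t) :
    ∃ s ∈ (S : Subgroup G), s * x * s⁻¹ = w₁ ∨ s * x * s⁻¹ = w₂ := by
  set σ := w₁ * w₂ with hσ
  have hσS : σ ∈ (S : Subgroup G) := mul_mem h₁ h₂
  set Z := Subgroup.zpowers σ with hZ
  have hZS : Z ≤ (S : Subgroup G) := Subgroup.zpowers_le.2 hσS
  have hi₁ : w₁⁻¹ = w₁ := inv_eq_of_mul_eq_one_right (by rw [← sq, ← o₁, pow_orderOf_eq_one])
  have hi₂ : w₂⁻¹ = w₂ := inv_eq_of_mul_eq_one_right (by rw [← sq, ← o₂, pow_orderOf_eq_one])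
  have hinv : w₁ * σ * w₁⁻¹ = σ⁻¹ := by
    rw [hσ, hi₁, _root_.mul_inv_rev, hi₁, hi₂, ← mul_assoc, ← sq, ← o₁, pow_orderOf_eq_one, one_mul]
  have hw₁ : w₁ ∉ Z := fun h => by
    obtain ⟨k, hk⟩ := Subgroup.mem_zpowers_iff.1 h
    have hc : w₁ * σ * w₁⁻¹ = σ := by
      rw [← hk]; group
    rw [hinv, inv_eq_iff_mul_eq_one, ← sq] at hc
    have := Nat.le_of_dvd two_pos (orderOf_dvd_of_pow_eq_one hc)
    rw [hσ, o₁₂] at this
    omega
  have hidx : (Z.subgroupOf (S : Subgroup G)).index = 2 := by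
    have h := (Z.subgroupOf (S : Subgroup G)).card_mul_index
    rw [Nat.card_congr (Subgroup.subgroupOfEquivOfLe hZS).toEquiv, hZ, Nat.card_zpowers, hσ, o₁₂,
      show Nat.card (S : Subgroup G) = 2 * m from (Nat.card_congr eS.toEquiv).trans DihedralGroup.nat_card] at h
    exact Nat.eq_of_mul_eq_mul_left (by omega : 0 < m) (h.trans (mul_comm _ _))
  have hout : ∀ y ∈ (S : Subgroup G), y ∉ Z → ∃ k : ℤ, y = w₁ * σ ^ k := fun y hy hyZ => by
    have h : (⟨w₁, h₁⟩⁻¹ * ⟨y, hy⟩ : (S : Subgroup G)) ∈ Z.subgroupOf (S : Subgroup G) :=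
      (Subgroup.mul_mem_iff_of_index_two hidx).2 (iff_of_false
        (fun e => hw₁ (inv_mem_iff.1 (Subgroup.mem_subgroupOf.1 e))) (fun e => hyZ (Subgroup.mem_subgroupOf.1 e)))
    obtain ⟨k, hk⟩ := Subgroup.mem_zpowers_iff.1 (Subgroup.mem_subgroupOf.1 h)
    exact ⟨k, by rw [hk]; exact (mul_inv_cancel_left w₁ y).symm⟩
  have htZ' : t ∈ Z := by
    by_contra h
    obtain ⟨k, hk⟩ := hout t htS h
    have hc := htZ σ hσS
    rw [hk, ← mul_assoc, mul_assoc w₁ (σ ^ k), ← (Commute.refl σ).zpow_right k |>.eq, ← mul_assoc w₁,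
      mul_left_inj] at hc
    rw [← hc, mul_inv_cancel_right, eq_inv_iff_mul_eq_one, ← sq] at hinv
    have := Nat.le_of_dvd two_pos (orderOf_dvd_of_pow_eq_one hinv)
    rw [hσ, o₁₂] at this
    omega
  have hxZ : x ∉ Z := fun h => hxt (CfsgLib.BSW.unique_involution_of_cyclic Z h htZ' ox ht)
  obtain ⟨k, hk⟩ := hout x hx hxZ
  -- conjugation by a power of the rotation
  have hconj : ∀ j k : ℤ, σ ^ j * (w₁ * σ ^ k) * (σ ^ j)⁻¹ = w₁ * σ ^ (k - 2 * j) := fun j k => by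
    have h : w₁ * σ ^ j * w₁⁻¹ = (σ ^ j)⁻¹ := by
      rw [← conj_zpow, hinv, inv_zpow]
    have h' : σ ^ j * w₁ = w₁ * (σ ^ j)⁻¹ := by
      rw [← h, hi₁, ← mul_assoc, ← mul_assoc, show w₁ * w₁ = 1 by rw [← sq, ← o₁, pow_orderOf_eq_one], one_mul]
    rw [← mul_assoc, h', mul_assoc, mul_assoc, ← zpow_neg, ← zpow_add, ← zpow_add]
    congr 2
    ring
  rcases Int.even_or_odd k with ⟨r, hr⟩ | ⟨r, hr⟩
  · refine ⟨σ ^ r, zpow_mem hσS r, Or.inl ?_⟩
    rw [hk, hconj, show k - 2 * r = 0 by omega, zpow_zero, mul_one]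
  · refine ⟨σ ^ r, zpow_mem hσS r, Or.inr ?_⟩
    rw [hk, hconj, show k - 2 * r = 1 by omega, zpow_one, hσ, ← mul_assoc, ← sq, ← o₁, pow_orderOf_eq_one,
      one_mul]

/-- An element exchanging two commuting involutions, the first central in a Sylow subgroup of order at least
eight containing the second. -/
theorem GWHyp.exists_exchange (h : GWHyp G) (S : Sylow 2 G) {m : ℕ} (hm : 4 ≤ m)
    (eS : (S : Subgroup G) ≃* DihedralGroup m) {t b : G} (ht : orderOf t = 2) (hb : orderOf b = 2)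
    (hne : b ≠ t) (htS : t ∈ (S : Subgroup G)) (hbS : b ∈ (S : Subgroup G))
    (htZ : ∀ s ∈ (S : Subgroup G), s * t = t * s) : ∃ g : G, g * t * g⁻¹ = b ∧ g * b * g⁻¹ = t := by
  have htt := Involutions.mul_self_eq_one_of_orderOf ht
  have hbb := Involutions.mul_self_eq_one_of_orderOf hb
  have hcomm : t * b = b * t := (htZ b hbS).symm
  set U := fourOf htt hbb hcomm
  have hUk : IsKleinFour U := isKleinFour_fourOf ht hb (Ne.symm hne) hcomm
  have htU : t ∈ U := Or.inr (Or.inl rfl)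
  have hbU : b ∈ U := Or.inr (Or.inr (Or.inl rfl))
  have hUS : U ≤ (S : Subgroup G) := by
    rintro x (rfl | rfl | rfl | hx)
    · exact one_mem _
    · exact htS
    · exact hbS
    · rw [Set.mem_singleton_iff.1 hx]; exact mul_mem htS hbS
  have ht1 : t ≠ 1 := fun e => by rw [e, orderOf_one] at ht; omega
  have hb1 : b ≠ 1 := fun e => by rw [e, orderOf_one] at hb; omega
  -- a 2-element fixing `t` and moving `b`
  obtain ⟨s, hsS, hsN, hsne, -⟩ := exists_moving eS hm hUS hUk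
  have hst : s * t * s⁻¹ = t := by rw [htZ s hsS, mul_inv_cancel_right]
  have hsb : s * b * s⁻¹ = t * b := by
    have hmem : s * b * s⁻¹ ∈ U := (Subgroup.mem_normalizer_iff.1 hsN b).1 hbU
    rcases (mem_fourOf htt hbb hcomm).1 hmem with e | e | e | e
    · exact absurd (conj_eq_one_iff.1 e) hb1
    · exact absurd (mul_left_cancel (mul_right_cancel (e.trans hst.symm))) hne
    · refine absurd ?_ hsne
      refine MulEquiv.ext fun x => Subtype.ext ?_
      show s * (x : G) * s⁻¹ = x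
      rcases (mem_fourOf htt hbb hcomm).1 x.2 with hx | hx | hx | hx <;> rw [hx]
      · group
      · exact hst
      · exact e
      · rw [show s * (t * b) * s⁻¹ = s * t * s⁻¹ * (s * b * s⁻¹) by group, hst, e]
    · exact e
  obtain ⟨g₀, hg₀, -, -, hcyc⟩ := h.exists_three hUk
  obtain ⟨hmove, hcyc'⟩ := hcyc t htU ht1
  have hmem : g₀ * t * g₀⁻¹ ∈ U := (Subgroup.mem_normalizer_iff.1 hg₀ t).1 htU
  rcases (mem_fourOf htt hbb hcomm).1 hmem with e | e | e | e
  · exact absurd (conj_eq_one_iff.1 e) ht1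
  · exact absurd e hmove
  · rw [e] at hcyc'
    refine ⟨g₀ * s, ?_, ?_⟩
    · rw [show g₀ * s * t * (g₀ * s)⁻¹ = g₀ * (s * t * s⁻¹) * g₀⁻¹ by group, hst, e]
    · rw [show g₀ * s * b * (g₀ * s)⁻¹ = g₀ * (s * b * s⁻¹) * g₀⁻¹ by group, hsb,
        show g₀ * (t * b) * g₀⁻¹ = g₀ * t * g₀⁻¹ * (g₀ * b * g₀⁻¹) by group, e, hcyc', hcomm, ← mul_assoc, hbb,
        one_mul]
  · rw [e, ← mul_assoc t t, htt, one_mul] at hcyc'
    have hgb : g₀ * b * g₀⁻¹ = t := by
      rw [show b = t * (t * b) by rw [← mul_assoc, htt, one_mul],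
        show g₀ * (t * (t * b)) * g₀⁻¹ = g₀ * t * g₀⁻¹ * (g₀ * (t * b) * g₀⁻¹) by group, e, hcyc', mul_assoc, hbb,
        mul_one]
    refine ⟨s * g₀, ?_, ?_⟩
    · rw [show s * g₀ * t * (s * g₀)⁻¹ = s * (g₀ * t * g₀⁻¹) * s⁻¹ by group, e,
        show s * (t * b) * s⁻¹ = s * t * s⁻¹ * (s * b * s⁻¹) by group, hst, hsb, ← mul_assoc, htt, one_mul]
    · rw [show s * g₀ * b * (s * g₀)⁻¹ = s * (g₀ * b * g₀⁻¹) * s⁻¹ by group, hgb, hst]

end CfsgLib.GW
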