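import Cfsg.Agent.Lib.GW.CltK.Basic
import Cfsg.Agent.Lib.GW.CltK.Lift
import Cfsg.Agent.Lib.GW.IIb.LocalComp
import Cfsg.Agent.Lib.GW.Model.Frame

/-!
The normaliser of the component modulo the centraliser.
-/

set_option autoImplicit false
set_option linter.unusedSectionVars false
set_option linter.style.haveILetI false

namespace CfsgLib.GW

open Cfsg

universe u

namespace Cfg

variable {G : Type u} [Group G] [Finite G] {t : G} {L : Subgroup G} (c : Cfg t L)

local notation "K₀" => Subgroup.normalizer (L : Set G)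

instance normal_cent : ((Subgroup.centralizer (L : Set G)).subgroupOf K₀).Normal where
  conj_mem x hx g := by
    rw [Subgroup.mem_subgroupOf, Subgroup.mem_centralizer_iff] at hx ⊢
    intro l hl
    have h1 := hx _ ((Subgroup.mem_normalizer_iff.1 (inv_mem g.2) l).1 hl)
    rw [inv_inv] at h1
    show l * ((g : G) * x * (g : G)⁻¹) = (g : G) * x * (g : G)⁻¹ * l
    calc l * ((g : G) * x * (g : G)⁻¹) = g * ((g : G)⁻¹ * l * g * x) * (g : G)⁻¹ := by group
      _ = g * (x * ((g : G)⁻¹ * l * g)) * (g : G)⁻¹ := by rw [h1]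
      _ = (g : G) * x * (g : G)⁻¹ * l := by group

/-- The quotient map. -/
abbrev qm : ↥K₀ →* ↥K₀ ⧸ (Subgroup.centralizer (L : Set G)).subgroupOf K₀ := QuotientGroup.mk' _

/-- The image of the component. -/
abbrev img : Subgroup (↥K₀ ⧸ (Subgroup.centralizer (L : Set G)).subgroupOf K₀) :=
  (L.subgroupOf K₀).map qm

theorem qm_eq_one {x : K₀} : qm x = 1 ↔ (x : G) ∈ Subgroup.centralizer (L : Set G) :=
  (QuotientGroup.eq_one_iff x).trans Subgroup.mem_subgroupOf

theorem mem_img {x : K₀} :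
    qm x ∈ img ↔ ∃ l ∈ L, ∃ w ∈ Subgroup.centralizer (L : Set G), (x : G) = l * w := by
  constructor
  · rintro ⟨l, hl, e⟩
    refine ⟨l, Subgroup.mem_subgroupOf.1 hl, (l : G)⁻¹ * x, ?_, (mul_inv_cancel_left _ _).symm⟩
    have h1 : qm (l⁻¹ * x) = 1 := by rw [map_mul, map_inv, e, inv_mul_cancel]
    exact qm_eq_one.1 h1
  · rintro ⟨l, hl, w, hw, e⟩
    refine ⟨⟨l, Subgroup.le_normalizer hl⟩, Subgroup.mem_subgroupOf.2 hl, ?_⟩
    rw [show x = ⟨l, Subgroup.le_normalizer hl⟩ * ⟨w, Cfg.centralizer_le hw⟩ from Subtype.ext e, map_mul,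
      qm_eq_one (x := ⟨w, Cfg.centralizer_le hw⟩) |>.2 hw, mul_one]

theorem img_normal : (img (L := L)).Normal :=
  (inferInstance : (L.subgroupOf K₀).Normal).map _ (QuotientGroup.mk'_surjective _)

include c

theorem isComponent : IsComponent (L.subgroupOf K₀) :=
  ⟨(inferInstance : (L.subgroupOf K₀).Normal).isSubnormal,
    CfsgLib.isQuasisimple_of_equiv (Subgroup.subgroupOfEquivOfLe Subgroup.le_normalizer).symm c.qs⟩

theorem perfect_le {P : Subgroup G} [Group.IsPerfect P] (hP : P ≤ K₀) : P ≤ L := fun x hx => by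
  haveI := isPerfect_subgroupOf (K := P) (H := K₀) hP
  exact Subgroup.mem_subgroupOf.1
    (c.hyp.perfect_le_component K₀ c.normalizer_ne_top c.isComponent (P.subgroupOf K₀)
      (show (⟨x, hP hx⟩ : K₀) ∈ P.subgroupOf K₀ from hx))

theorem cent_odd : Odd (Nat.card ((Subgroup.centralizer (L : Set G)).subgroupOf K₀)) := by
  rw [Nat.card_congr (Subgroup.subgroupOfEquivOfLe Cfg.centralizer_le).toEquiv]
  exact c.centralizer_odd

theorem dihedral_K : GWDihedral K₀ := (c.hyp.component K₀ c.normalizer_ne_top c.isComponent).1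

theorem dihedral_quot : GWDihedral (↥K₀ ⧸ (Subgroup.centralizer (L : Set G)).subgroupOf K₀) :=
  c.dihedral_K.quotient _ c.cent_odd

theorem model_img : GWModel (img (L := L)) := by
  obtain ⟨-, -, hm, hcore, -, -, -⟩ := c.hyp.component K₀ c.normalizer_ne_top c.isComponent
  let f : L.subgroupOf K₀ →* img (L := L) := (qm.comp (L.subgroupOf K₀).subtype).codRestrict _
    fun x => ⟨x, x.2, rfl⟩
  have hf : Function.Surjective f := fun ⟨y, x, hx, e⟩ => ⟨⟨x, hx⟩, Subtype.ext e⟩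
  have hker : f.ker = oddCore (L.subgroupOf K₀) := by
    rw [hcore]
    ext x
    rw [MonoidHom.mem_ker, Subgroup.mem_center_iff]
    have h1 : f x = 1 ↔ ((x : K₀) : G) ∈ Subgroup.centralizer (L : Set G) :=
      ⟨fun h => qm_eq_one.1 (congrArg Subtype.val h), fun h => Subtype.ext (qm_eq_one.2 h)⟩
    rw [h1, Subgroup.mem_centralizer_iff]
    constructor
    · exact fun h y => Subtype.ext (Subtype.ext (h _ (Subgroup.mem_subgroupOf.1 y.2)))
    · exact fun h l hl => congrArg (fun z : L.subgroupOf K₀ => ((z : K₀) : G))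
        (h ⟨⟨l, Subgroup.le_normalizer hl⟩, hl⟩)
  exact GWModel.of_equiv
    ((QuotientGroup.quotientMulEquivOfEq hker.symm).trans (QuotientGroup.quotientKerEquivOfSurjective f hf)).symm hm

theorem cent_img :
    Subgroup.centralizer (img (L := L) : Set (↥K₀ ⧸ (Subgroup.centralizer (L : Set G)).subgroupOf K₀)) = ⊥ := by
  rw [eq_bot_iff]
  intro y hy
  obtain ⟨x, rfl⟩ := QuotientGroup.mk'_surjective _ y
  rw [Subgroup.mem_bot]
  refine qm_eq_one.2 (c.mem_centralizer_of_comm fun l hl => ?_)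
  have hlK : l ∈ K₀ := Subgroup.le_normalizer hl
  have h1 := (Subgroup.mem_centralizer_iff.1 hy (qm ⟨l, hlK⟩) ⟨⟨l, hlK⟩, hl, rfl⟩).symm
  have h2 : qm (x * ⟨l, hlK⟩ * x⁻¹ * ⟨l, hlK⟩⁻¹) = 1 := by
    rw [map_mul, map_mul, map_mul, map_inv, map_inv, h1, mul_inv_cancel_right, mul_inv_cancel]
  have h3 := Subgroup.mem_centralizer_iff.1 (qm_eq_one.1 h2)
  exact ⟨mul_mem (Cfg.conj_mem_L x.2 hl) (inv_mem hl), fun m hm => (h3 m hm).symm⟩

/-- An involution whose image lies in that of the component lies in it. -/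
theorem mem_of_invol {x : K₀} (hx : orderOf (x : G) = 2) (h : qm x ∈ img) : (x : G) ∈ L := by
  obtain ⟨l, hl, w, hw, e⟩ := mem_img.1 h
  have hlw : Commute l w := Subgroup.mem_centralizer_iff.1 hw l hl
  obtain ⟨k, hk⟩ := c.centralizer_odd
  have hwn : w ^ (2 * k + 1) = 1 :=
    hk ▸ congrArg Subtype.val (pow_card_eq_one' (x := (⟨w, hw⟩ : Subgroup.centralizer (L : Set G))))
  have h1 : (x : G) ^ (2 * k + 1) = x := by
    rw [pow_succ, pow_mul, show (x : G) ^ 2 = 1 by rw [← hx]; exact pow_orderOf_eq_one _, one_pow, one_mul]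
  rw [← h1, e, hlw.mul_pow, hwn, mul_one]
  exact pow_mem hl _

/-- An element inverted by the involution with image in that of the component lies in the component. -/
theorem mem_of_inverted {x : K₀} (hxt : t * x * t⁻¹ = (x : G)⁻¹) (h : qm x ∈ img) : (x : G) ∈ L := by
  obtain ⟨l, hl, w, hw, e⟩ := mem_img.1 h
  have hwt : t * w * t⁻¹ = w := by rw [Subgroup.mem_centralizer_iff.1 hw t c.t_mem, mul_inv_cancel_right]
  have hl' : t * l * t⁻¹ ∈ L := mul_mem (mul_mem c.t_mem hl) (inv_mem c.t_mem)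
  have hw' : ∀ a ∈ L, a * w = w * a := Subgroup.mem_centralizer_iff.1 hw
  have hsq : w ^ 2 ∈ L := by
    have h1 : t * l * t⁻¹ * w = w⁻¹ * l⁻¹ := by
      rw [← mul_inv_rev, ← e, ← hxt, e]
      calc t * l * t⁻¹ * w = t * l * t⁻¹ * (t * w * t⁻¹) := by rw [hwt]
        _ = t * (l * w) * t⁻¹ := by group
    have h2 : w ^ 2 = (l * (t * l * t⁻¹))⁻¹ := by
      have h3 : (t * l * t⁻¹) * w * (l * w) = 1 := by rw [h1]; group
      rw [eq_inv_iff_mul_eq_one, sq]
      have e1 := hw' (t * l * t⁻¹) hl'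
      have e2 := hw' l hl
      calc w * w * (l * (t * l * t⁻¹)) = w * (w * l) * (t * l * t⁻¹) := by group
        _ = w * (l * w) * (t * l * t⁻¹) := by rw [e2]
        _ = w * l * (w * (t * l * t⁻¹)) := by group
        _ = l * w * ((t * l * t⁻¹) * w) := by rw [e2, e1]
        _ = 1 := by rw [h1]; group
    rw [h2]
    exact inv_mem (mul_mem hl hl')
  rw [e]
  exact mul_mem hl (mem_of_sq_mem (odd_orderOf_of_mem c.centralizer_odd hw) hsq)

/-- The centraliser of `t` and of a commuting involution, from its image. -/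
theorem card_pair {v : G} (hvK : v ∈ K₀) (hv : orderOf v = 2) (hvt : v * t = t * v) :
    Nat.card (Subgroup.centralizer ({t, v} : Set G)) =
      Nat.card (Subgroup.centralizer (L : Set G) ⊓ Subgroup.centralizer ({v} : Set G) : Subgroup G) *
        Nat.card (Subgroup.centralizer ({qm ⟨t, Subgroup.le_normalizer c.t_mem⟩, qm ⟨v, hvK⟩} :
          Set (↥K₀ ⧸ (Subgroup.centralizer (L : Set G)).subgroupOf K₀))) := by
  set W := Subgroup.centralizer (L : Set G)
  set C := Subgroup.centralizer ({t, v} : Set G)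
  have hCK : C ≤ K₀ := (Subgroup.centralizer_le (by simp)).trans c.le
  set f := qm.comp (Subgroup.inclusion hCK) with hfdef
  have htK : t ∈ K₀ := Subgroup.le_normalizer c.t_mem
  have hWt : ∀ w ∈ W, w * t = t * w := fun w hw => (Subgroup.mem_centralizer_iff.1 hw t c.t_mem).symm
  have hmap : f.range = Subgroup.centralizer {qm ⟨t, htK⟩, qm ⟨v, hvK⟩} := by
    refine le_antisymm ?_ ?_
    · rintro _ ⟨x, rfl⟩
      rw [Subgroup.mem_centralizer_iff]
      rintro y (rfl | hy)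
      · show qm ⟨t, htK⟩ * qm ⟨(x : G), hCK x.2⟩ = qm ⟨(x : G), hCK x.2⟩ * qm ⟨t, htK⟩
        rw [← map_mul, ← map_mul]
        exact congrArg qm (Subtype.ext (Subgroup.mem_centralizer_iff.1 x.2 t (Set.mem_insert _ _)))
      · rw [Set.mem_singleton_iff.1 hy]
        show qm ⟨v, hvK⟩ * qm ⟨(x : G), hCK x.2⟩ = qm ⟨(x : G), hCK x.2⟩ * qm ⟨v, hvK⟩
        rw [← map_mul, ← map_mul]
        exact congrArg qm (Subtype.ext (Subgroup.mem_centralizer_iff.1 x.2 v (Set.mem_insert_of_mem _ rfl)))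
    · intro y hy
      obtain ⟨h, rfl⟩ := QuotientGroup.mk'_surjective _ y
      rw [Subgroup.mem_centralizer_iff] at hy
      have hct := (hy _ (Set.mem_insert _ _)).symm
      have hcv := (hy _ (Set.mem_insert_of_mem _ rfl)).symm
      have hcomm : ∀ {u : G} (hu : u ∈ K₀), qm h * qm ⟨u, hu⟩ = qm ⟨u, hu⟩ * qm h →
          (h : G) * u * (h : G)⁻¹ * u⁻¹ ∈ W := fun {u} hu e => by
        have h2 : qm (h * ⟨u, hu⟩ * h⁻¹ * ⟨u, hu⟩⁻¹) = 1 := by
          rw [map_mul, map_mul, map_mul, map_inv, map_inv, e, mul_inv_cancel_right, mul_inv_cancel]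
        exact qm_eq_one.1 h2
      obtain ⟨r₁, hr₁, e₁⟩ := exists_lift c.centralizer_odd c.ord (hcomm htK hct)
      have hmem₁ : r₁⁻¹ * (h : G) ∈ K₀ := mul_mem (inv_mem (Cfg.centralizer_le hr₁)) h.2
      have hq₁ : qm ⟨r₁⁻¹ * (h : G), hmem₁⟩ = qm h := by
        rw [show (⟨r₁⁻¹ * (h : G), hmem₁⟩ : K₀) = ⟨r₁, Cfg.centralizer_le hr₁⟩⁻¹ * h from rfl, map_mul, map_inv,
          qm_eq_one (x := ⟨r₁, Cfg.centralizer_le hr₁⟩) |>.2 hr₁, inv_one, one_mul]
      have hW2 : r₁⁻¹ * (h : G) * v * (r₁⁻¹ * (h : G))⁻¹ * v⁻¹ ∈ W := by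
        have h2 : qm (⟨r₁⁻¹ * (h : G), hmem₁⟩ * ⟨v, hvK⟩ * ⟨r₁⁻¹ * (h : G), hmem₁⟩⁻¹ * ⟨v, hvK⟩⁻¹) = 1 := by
          rw [map_mul, map_mul, map_mul, map_inv, map_inv, hq₁, hcv, mul_inv_cancel_right, mul_inv_cancel]
        exact qm_eq_one.1 h2
      obtain ⟨r₂, hr₂, e₂⟩ := exists_lift c.centralizer_odd hv hW2
      set z := r₂⁻¹ * (r₁⁻¹ * (h : G))
      have hzt : z * t = t * z := by
        show r₂⁻¹ * (r₁⁻¹ * (h : G)) * t = t * (r₂⁻¹ * (r₁⁻¹ * (h : G)))
        rw [mul_assoc, e₁, ← mul_assoc, hWt _ (inv_mem hr₂), mul_assoc]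
      have hzC : z ∈ C := Subgroup.mem_centralizer_iff.2 (by
        rintro a (rfl | ha)
        · exact hzt.symm
        · rw [Set.mem_singleton_iff.1 ha]; exact e₂.symm)
      refine ⟨⟨z, hzC⟩, ?_⟩
      show qm ⟨z, hCK hzC⟩ = qm h
      rw [show (⟨z, hCK hzC⟩ : K₀) = ⟨r₂, Cfg.centralizer_le hr₂⟩⁻¹ * ⟨r₁⁻¹ * (h : G), hmem₁⟩ from rfl, map_mul,
        map_inv, qm_eq_one (x := ⟨r₂, Cfg.centralizer_le hr₂⟩) |>.2 hr₂, inv_one, one_mul, hq₁]
  have hker : f.ker = ((W ⊓ Subgroup.centralizer ({v} : Set G)).subgroupOf C) := by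
    ext x
    rw [MonoidHom.mem_ker, Subgroup.mem_subgroupOf]
    refine ⟨fun h => ⟨qm_eq_one.1 h, ?_⟩, fun h => qm_eq_one.2 h.1⟩
    exact Subgroup.mem_centralizer_singleton_iff.2
      (Subgroup.mem_centralizer_iff.1 x.2 v (Set.mem_insert_of_mem _ rfl)).symm
  have hle : W ⊓ Subgroup.centralizer ({v} : Set G) ≤ C := fun w hw => Subgroup.mem_centralizer_iff.2 (by
    rintro a (rfl | ha)
    · exact (hWt w hw.1).symm
    · rw [Set.mem_singleton_iff.1 ha]; exact (Subgroup.mem_centralizer_singleton_iff.1 hw.2).symm)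
  rw [← hmap, ← Nat.card_congr (Subgroup.subgroupOfEquivOfLe hle).toEquiv, ← hker,
    ← Nat.card_congr (QuotientGroup.quotientKerEquivRange f).toEquiv, mul_comm]
  exact Subgroup.card_eq_card_quotient_mul_card_subgroup _

end Cfg

end CfsgLib.GW
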