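import Cfsg.Agent.Lib.GW.CltK.Count
import Cfsg.Agent.Lib.GW.CltK.Outer
import Cfsg.Agent.Lib.GW.CltK.Arith
import Cfsg.Agent.Lib.GW.Model.Shape

/-!
The normaliser of the component cannot have two classes of involutions.
-/

set_option autoImplicit false
set_option maxHeartbeats 1600000
set_option linter.unusedSectionVars false
set_option linter.style.haveILetI false

namespace CfsgLib.GW

open Cfsg DihedralGroup
open CfsgLib.DihedralFusion

universe u

namespace Cfg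

variable {G : Type u} [Group G] [Finite G] {t : G} {L : Subgroup G} (c : Cfg t L)

local notation "K₀" => Subgroup.normalizer (L : Set G)

include c

/-- An involution of the normaliser has an image of order two. -/
theorem orderOf_qm {x : K₀} (hx : orderOf (x : G) = 2) : orderOf (qm (L := L) x) = 2 := by
  refine orderOf_eq_prime ?_ fun h => ?_
  · rw [← map_pow, show x ^ 2 = 1 from Subtype.ext (by
      rw [Subgroup.coe_pow, Subgroup.coe_one, ← hx]; exact pow_orderOf_eq_one _), map_one]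
  · have h2 := odd_orderOf_of_mem c.centralizer_odd (qm_eq_one.1 h)
    rw [hx] at h2
    norm_num at h2

/-- A normaliser of a component with two classes of involutions contains no involution centraliser. -/
theorem two_class_false
    (hTI : ∀ z ∈ Subgroup.centralizer (L : Set G), z ≠ 1 → Subgroup.centralizer ({z} : Set G) ≤ K₀)
    {v₀ : G} (hv₀ : orderOf v₀ = 2) (hv₀K : v₀ ∈ K₀) (hv₀L : v₀ ∉ L) : False := by
  classical
  haveI := c.hyp.simple
  haveI : Fact (Nat.Prime 2) := ⟨Nat.prime_two⟩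
  haveI := img_normal (L := L)
  obtain ⟨S, htS, htZ, U, hU, hUL, hUS, htU⟩ := c.exists_sylow
  haveI := hU
  have hSK : (S : Subgroup G) ≤ K₀ := fun s hs => c.le (Subgroup.mem_centralizer_singleton_iff.2 (htZ s hs))
  -- an outer involution in the Sylow subgroup
  obtain ⟨v, hvS, ov, hvL⟩ : ∃ v ∈ (S : Subgroup G), orderOf v = 2 ∧ v ∉ L := by
    have hp : IsPGroup 2 (Subgroup.zpowers (⟨v₀, hv₀K⟩ : K₀)) := IsPGroup.of_card (n := 1)
      (by rw [Nat.card_zpowers, Subgroup.orderOf_mk, hv₀, pow_one])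
    obtain ⟨g, hg⟩ := exists_conj_le (S := S.subtype hSK) hp
    have hmem := Subgroup.mem_subgroupOf.1 (hg ⟨_, Subgroup.mem_zpowers _, rfl⟩)
    refine ⟨(g : G) * v₀ * (g : G)⁻¹, hmem, (MulEquiv.orderOf_eq (MulAut.conj (g : G)) v₀).trans hv₀, fun h => ?_⟩
    have h' := Cfg.conj_mem_L (inv_mem g.2) h
    rw [show (g : G)⁻¹ * ((g : G) * v₀ * (g : G)⁻¹) * (g : G)⁻¹⁻¹ = v₀ by group] at h'
    exact hv₀L h'
  obtain ⟨m, hm2, ⟨eS⟩⟩ := c.hyp.dihedral.shape S
  have hScard : Nat.card (S : Subgroup G) = 2 * m := (Nat.card_congr eS.toEquiv).trans DihedralGroup.nat_card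
  have hm : 4 ≤ m := by
    by_contra hc
    have hU4 := hU.card_four
    have hdvd := Subgroup.card_dvd_of_le hUS
    rw [hU4, hScard] at hdvd
    have hm' : m = 2 := by omega
    exact hvL (hUL ((Subgroup.eq_of_le_of_card_ge hUS (by rw [hScard, hU4, hm'])).ge hvS))
  -- an inner involution other than the central one
  obtain ⟨u, huU, hu1, hut⟩ : ∃ u ∈ U, u ≠ 1 ∧ u ≠ t := by
    by_contra hc
    push Not at hc
    have hsub : U ≤ Subgroup.zpowers t := fun x hx => by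
      by_cases h1 : x = 1
      · exact h1 ▸ one_mem _
      · exact hc x hx h1 ▸ Subgroup.mem_zpowers t
    have := Subgroup.card_le_of_le hsub
    rw [hU.card_four, Nat.card_zpowers, c.ord] at this
    omega
  have ou : orderOf u = 2 := orderOf_eq_prime
    (by rw [sq]; exact congrArg Subtype.val (IsKleinFour.mul_self (⟨u, huU⟩ : U))) hu1
  have hvt : v ≠ t := fun e => hvL (e ▸ c.t_mem)
  obtain ⟨a, b, haS, hbS, oa, ob, hat, hbt', oab, haL, hbL⟩ : ∃ a b : G, a ∈ (S : Subgroup G) ∧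
      b ∈ (S : Subgroup G) ∧ orderOf a = 2 ∧ orderOf b = 2 ∧ a ≠ t ∧ b ≠ t ∧ orderOf (a * b) = m ∧
      a ∈ L ∧ b ∉ L := by
    obtain ⟨w₁, w₂, h₁, h₂, o₁, o₂, ne₁, ne₂, o₁₂⟩ := exists_reflections S hm2 eS htS htZ
    obtain ⟨s, hs, hsu⟩ := reflection_conj S hm eS c.ord htS htZ h₁ h₂ o₁ o₂ o₁₂ (hUS huU) ou hut
    obtain ⟨s', hs', hsv⟩ := reflection_conj S hm eS c.ord htS htZ h₁ h₂ o₁ o₂ o₁₂ hvS ov hvt
    have hin : s * u * s⁻¹ ∈ L := Cfg.conj_mem_L (hSK hs) (hUL huU)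
    have hout : s' * v * s'⁻¹ ∉ L := fun h => by
      have h' := Cfg.conj_mem_L (inv_mem (hSK hs')) h
      rw [show s'⁻¹ * (s' * v * s'⁻¹) * s'⁻¹⁻¹ = v by group] at h'
      exact hvL h'
    rcases hsu with e | e <;> rw [e] at hin <;> rcases hsv with e' | e' <;> rw [e'] at hout
    · exact absurd hin hout
    · exact ⟨w₁, w₂, h₁, h₂, o₁, o₂, ne₁, ne₂, o₁₂, hin, hout⟩
    · refine ⟨w₂, w₁, h₂, h₁, o₂, o₁, ne₂, ne₁, ?_, hin, hout⟩
      rw [← orderOf_inv, mul_inv_rev, inv_self_of_orderOf_two o₁, inv_self_of_orderOf_two o₂, o₁₂]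
    · exact absurd hin hout
  obtain ⟨ρ, hρ, -, -, hG⟩ := order_formula c.hyp.noncomm c.hyp.all_conj S hm2 eS c.ord htS htZ haS hbS oa ob
    hat hbt' oab
  obtain ⟨g, hgt, hgb⟩ := c.hyp.exists_exchange S hm eS c.ord ob hbt' htS hbS htZ
  have htK : t ∈ K₀ := Subgroup.le_normalizer c.t_mem
  have haK : a ∈ K₀ := hSK haS
  have hbK : b ∈ K₀ := hSK hbS
  have hat' : a * t = t * a := htZ a haS
  have hbt : b * t = t * b := htZ b hbS
  set W := Subgroup.centralizer (L : Set G) with hW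
  set tb := qm (L := L) ⟨t, htK⟩ with htb
  set ab := qm (L := L) ⟨a, haK⟩ with hab
  set bb := qm (L := L) ⟨b, hbK⟩ with hbb
  have htbE : tb ∈ img := ⟨⟨t, htK⟩, c.t_mem, rfl⟩
  have hbbE : bb ∉ img := fun h => hbL (c.mem_of_invol (x := ⟨b, hbK⟩) ob h)
  have htb2 : orderOf tb = 2 := c.orderOf_qm (x := ⟨t, htK⟩) c.ord
  have hab2 : orderOf ab = 2 := c.orderOf_qm (x := ⟨a, haK⟩) oa
  have hbb2 : orderOf bb = 2 := c.orderOf_qm (x := ⟨b, hbK⟩) ob
  obtain ⟨q, f, e, P⟩ := pglShape_exists c.dihedral_quot (img (L := L)) c.model_img c.cent_img hbb2 hbbE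
  obtain ⟨hY, hlow⟩ := c.count_orbit hTI ob hbt hbK hbL hgt hgb P
  have hWodd := c.centralizer_odd
  have hWt : W ≤ Subgroup.centralizer ({t} : Set G) := fun w hw =>
    Subgroup.mem_centralizer_singleton_iff.2 (Subgroup.mem_centralizer_iff.1 hw t c.t_mem).symm
  have hWa : W ≤ Subgroup.centralizer ({a} : Set G) := fun w hw =>
    Subgroup.mem_centralizer_singleton_iff.2 (Subgroup.mem_centralizer_iff.1 hw a haL).symm
  have habne : ab ≠ tb := fun h => by
    have h1 : qm (L := L) (⟨t, htK⟩⁻¹ * ⟨a, haK⟩) = 1 := by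
      rw [map_mul, map_inv, ← hab, ← htb, h, inv_mul_cancel]
    have h2 := odd_orderOf_of_mem hWodd (qm_eq_one.1 h1)
    rw [show ((⟨t, htK⟩⁻¹ * ⟨a, haK⟩ : K₀) : G) = t * a by
      rw [Subgroup.coe_mul, Subgroup.coe_inv, inv_self_of_orderOf_two c.ord]] at h2
    have h3 : orderOf (t * a) = 2 := orderOf_eq_prime (by
      rw [(show Commute t a from hat'.symm).mul_pow]
      conv_lhs => rw [← c.ord, pow_orderOf_eq_one, c.ord, ← oa, pow_orderOf_eq_one, one_mul])
      fun h0 => hat ((inv_eq_of_mul_eq_one_right h0).symm.trans (inv_self_of_orderOf_two c.ord))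
    rw [h3] at h2
    norm_num at h2
  have hcomm : ∀ {x : G} (hx : x ∈ K₀), x * t = t * x → qm (L := L) ⟨x, hx⟩ * tb = tb * qm ⟨x, hx⟩ :=
    fun {x} hx h => by
      rw [htb, ← map_mul, ← map_mul]
      exact congrArg qm (Subtype.ext h)
  -- the centraliser orders
  have hc : (Nat.card (Subgroup.centralizer ({t} : Set G)) : ℤ) = Nat.card W * (2 * ((q : ℤ) + e) * f) := by
    have h := c.card_pair htK c.ord rfl
    simp only [Set.pair_eq_singleton, ← htb] at h
    rw [inf_eq_left.2 hWt] at h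
    rw [h, Nat.cast_mul, P.inner tb htbE htb2]
  have ha₁ : Nat.card (Subgroup.centralizer ({t, a} : Set G)) = Nat.card W * (4 * f) := by
    have h := c.card_pair haK oa hat'
    rw [inf_eq_left.2 hWa] at h
    rw [h, P.pair tb htbE htb2 ab hab2 habne (hcomm haK hat')]
  have ha₂ : Nat.card (Subgroup.centralizer ({t, b} : Set G)) =
      Nat.card (W ⊓ Subgroup.centralizer ({b} : Set G) : Subgroup G) * (4 * f) := by
    rw [c.card_pair hbK ob hbt, P.pair tb htbE htb2 bb hbb2 (fun h => hbbE (by rw [h]; exact htbE))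
      (hcomm hbK hbt)]
  have hinv := card_inverted hWodd ob (N := W) fun x hx =>
    Subgroup.mem_subgroupOf.1 ((normal_cent (L := L)).conj_mem ⟨x, Cfg.centralizer_le hx⟩ hx ⟨b, hbK⟩)
  have hK : (Nat.card K₀ : ℤ) = Nat.card W * ((q : ℤ) * ((q : ℤ) ^ 2 - 1) * f) := by
    have h1 := (W.subgroupOf K₀).card_mul_index
    rw [Subgroup.index_eq_card, P.card, Nat.card_congr (Subgroup.subgroupOfEquivOfLe Cfg.centralizer_le).toEquiv] at h1
    rw [← h1]
    have : 1 ≤ q ^ 2 := Nat.one_le_pow _ _ (by linarith [P.five])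
    push_cast [Nat.cast_sub this]
    ring
  -- the order formula
  set w := Nat.card W with hw
  set w₀ := Nat.card (W ⊓ Subgroup.centralizer ({b} : Set G) : Subgroup G) with hw₀
  set y := Nat.card {x : G // x ∈ W ∧ b * x * b⁻¹ = x⁻¹}
  set N := (K₀).index with hN
  have hq5 := P.five
  have hf : 0 < f := P.f_odd.pos
  have hwpos : 0 < w := Nat.card_pos
  have hw₀pos : 0 < w₀ := Nat.card_pos
  have hform : 4 * (N : ℚ) * q * ((q : ℚ) - e) = ρ * ((q : ℚ) + e) ^ 2 * ((q : ℚ) - e + 2) ^ 2 := by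
    have hcQ : (Nat.card (Subgroup.centralizer ({t} : Set G)) : ℚ) = w * (2 * ((q : ℚ) + e) * f) := by
      exact_mod_cast congrArg (fun z : ℤ => (z : ℚ)) hc
    have hGK : (Nat.card G : ℚ) = N * Nat.card K₀ := by exact_mod_cast (K₀).index_mul_card.symm
    have hKQ : (Nat.card K₀ : ℚ) = w * ((q : ℚ) * (((q : ℚ) - e) * ((q : ℚ) + e)) * f) := by
      have h := congrArg (fun z : ℤ => (z : ℚ)) hK
      push_cast at h
      rw [h]
      rcases P.sign with rfl | rfl <;> push_cast <;> ring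
    have hyQ : 2 * (y : ℚ) = (q : ℚ) - e := by exact_mod_cast congrArg (fun z : ℤ => (z : ℚ)) hY
    have hwQ : (y : ℚ) * w₀ = w := by exact_mod_cast hinv
    rw [hGK, hKQ, hcQ, ha₁, ha₂] at hG
    push_cast at hG
    have hf' : (f : ℚ) ≠ 0 := by exact_mod_cast hf.ne'
    have hw' : (w : ℚ) ≠ 0 := by exact_mod_cast hwpos.ne'
    have hw₀' : (w₀ : ℚ) ≠ 0 := by exact_mod_cast hw₀pos.ne'
    have hqe : (q : ℚ) + e ≠ 0 := by
      have h5 : (5 : ℚ) ≤ q := by exact_mod_cast hq5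
      rcases P.sign with rfl | rfl <;> push_cast <;> linarith
    have hsum : 1 / ((w : ℚ) * (4 * f)) + 1 / ((w₀ : ℚ) * (4 * f)) = (1 + y) / (w * (4 * f)) := by
      rw [← hwQ]
      have hy0 : (y : ℚ) ≠ 0 := fun h => hw' (by rw [← hwQ, h, zero_mul])
      field_simp
    rw [hsum] at hG
    have hne : (w : ℚ) * f * ((q : ℚ) + e) ≠ 0 := mul_ne_zero (mul_ne_zero hw' hf') hqe
    refine mul_right_cancel₀ hne ?_
    have hG' : (N : ℚ) * q * ((q : ℚ) - e) * ((w : ℚ) * f * ((q : ℚ) + e)) =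
        ρ * ((q : ℚ) + e) ^ 2 * (1 + (y : ℚ)) ^ 2 * ((w : ℚ) * f * ((q : ℚ) + e)) := by
      have e1 : 2 * ρ * ((w : ℚ) * (2 * ((q : ℚ) + e) * f)) ^ 3 * ((1 + (y : ℚ)) / (w * (4 * f))) ^ 2 =
          ρ * w * ((q : ℚ) + e) ^ 3 * f * (1 + (y : ℚ)) ^ 2 := by
        field_simp
        ring
      linear_combination hG + e1
    rw [show (q : ℚ) - e + 2 = 2 * (1 + y) by linarith]
    linear_combination 4 * hG'
  -- the 2-parts
  obtain ⟨n, hn⟩ : ∃ n : ℕ, (n : ℤ) = (q : ℤ) + e :=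
    ⟨((q : ℤ) + e).toNat, Int.toNat_of_nonneg (by rcases P.sign with h | h <;> omega)⟩
  have hcn : Nat.card (Subgroup.centralizer ({t} : Set G)) = 2 * n * (w * f) := by
    have : (Nat.card (Subgroup.centralizer ({t} : Set G)) : ℤ) = ((2 * n * (w * f) : ℕ) : ℤ) := by
      rw [hc, ← hn]; push_cast; ring
    exact_mod_cast this
  have hSC : (S : Subgroup G) ≤ Subgroup.centralizer ({t} : Set G) := fun s hs =>
    Subgroup.mem_centralizer_singleton_iff.2 (htZ s hs)
  have hSidx : ¬ 2 ∣ (S : Subgroup G).index := S.not_dvd_index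
  obtain ⟨k, hk⟩ := IsPGroup.iff_card.1 S.isPGroup'
  obtain ⟨j, -, hj⟩ := (Nat.dvd_prime_pow Nat.prime_two).1 (show m ∣ 2 ^ k from ⟨2, by rw [← hk, hScard, mul_comm]⟩)
  have hcop : m.Coprime (w * f) := by
    rw [hj]
    exact Nat.Coprime.pow_left _ (Nat.coprime_two_left.2 (hWodd.mul P.f_odd))
  have hmd : (m : ℤ) ∣ (q : ℤ) + e := by
    rw [← hn, Int.natCast_dvd_natCast]
    have h := Subgroup.card_dvd_of_le hSC
    rw [hScard, hcn, mul_assoc] at h
    exact hcop.dvd_of_dvd_mul_right (Nat.dvd_of_mul_dvd_mul_left two_pos h)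
  have hmax : ¬ 2 * (m : ℤ) ∣ (q : ℤ) + e := by
    intro h
    rw [← hn, show (2 * (m : ℤ)) = ((2 * m : ℕ) : ℤ) by push_cast; ring, Int.natCast_dvd_natCast] at h
    have h1 : 2 * (2 * m) ∣ Nat.card G :=
      ((Nat.mul_dvd_mul_left 2 h).trans (dvd_mul_right _ (w * f))).trans
        (hcn ▸ Subgroup.card_subgroup_dvd_card _)
    rw [← (S : Subgroup G).card_mul_index, hScard, mul_comm 2 (2 * m)] at h1
    exact hSidx (Nat.dvd_of_mul_dvd_mul_left (by omega) h1)
  have hNodd : Odd N := by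
    rw [← Nat.not_even_iff_odd, even_iff_two_dvd]
    exact fun h2 => hSidx (h2.trans (Subgroup.index_dvd_of_le hSK))
  refine arith_false hm hρ P.five P.sign P.four_dvd hmd hmax hNodd hform ?_
  have h : (q : ℤ) * ((q : ℤ) + e) + 2 ≤ 2 * (N : ℤ) := by linarith
  have h' : (q : ℚ) * ((q : ℚ) + e) + 2 ≤ 2 * (N : ℚ) := by exact_mod_cast h
  linarith

end Cfg

end CfsgLib.GW
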